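/-
Similarities of a quadratic form inside the special linear group, in matrix language.
-/
import Cfsg.Agent.Lib.FiniteForms.Quad
import Cfsg.Prelude.Def_GeometricClasses

set_option autoImplicit false
set_option linter.unusedSectionVars false

namespace CfsgLib.OrthSLElusive

open Matrix Module

universe u

variable {F : Type u} [Field F] [Fintype F] {n : ℕ}

local notation "Mn" => Matrix (Fin n) (Fin n) F

/-- A similarity of a bilinear form given by its matrix. -/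
def Sim (G M : Matrix (Fin n) (Fin n) F) : Prop := ∃ c : F, Mᵀ * G * M = c • G

theorem mem_quad_of_sim (h2 : (2 : F) ≠ 0) (R : QuadraticForm F (Fin n → F))
    (hG : (CfsgLib.FiniteForms.polarMat ⇑R).det ≠ 0) {g : GL (Fin n) F}
    (h : Sim (CfsgLib.FiniteForms.polarMat ⇑R) (g : Mn)) : g ∈ Cfsg.Geo.quadSimilarityGroup ⇑R := by
  obtain ⟨c, hc⟩ := h
  rcases Nat.eq_zero_or_pos n with rfl | hn
  · exact ⟨1, fun v => by rw [Units.val_one, one_mul]; congr 1; exact Subsingleton.elim _ _⟩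
  have hc0 : c ≠ 0 := fun h0 => by
    have h1 := congrArg Matrix.det hc
    have hz : c ^ n = 0 := by rw [h0, zero_pow hn.ne']
    rw [det_mul, det_mul, det_transpose, det_smul, Fintype.card_fin, hz, zero_mul] at h1
    have hg : (g : Mn).det ≠ 0 := ((Matrix.isUnit_iff_isUnit_det _).mp g.isUnit).ne_zero
    exact mul_ne_zero (mul_ne_zero hg hG) hg h1
  refine ⟨Units.mk0 c hc0, fun v => mul_left_cancel₀ h2 ?_⟩
  rw [Units.val_mk0, mul_left_comm, CfsgLib.FiniteForms.two_mul_eq, CfsgLib.FiniteForms.two_mul_eq]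
  set G := CfsgLib.FiniteForms.polarMat ⇑R
  have hq : (g : Mn) *ᵥ v ⬝ᵥ G *ᵥ ((g : Mn) *ᵥ v) = v ⬝ᵥ ((g : Mn)ᵀ * G * (g : Mn)) *ᵥ v := by
    rw [← mulVec_mulVec, ← mulVec_mulVec, dotProduct_mulVec v ((g : Mn)ᵀ), vecMul_transpose]
  rw [hq, hc, smul_mulVec, dotProduct_smul, smul_eq_mul]

theorem sim_of_mem_quad (R : QuadraticForm F (Fin n → F)) {g : GL (Fin n) F}
    (h : g ∈ Cfsg.Geo.quadSimilarityGroup ⇑R) : Sim (CfsgLib.FiniteForms.polarMat ⇑R) (g : Mn) := by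
  obtain ⟨c, hc⟩ := h
  refine ⟨c, Matrix.ext fun i j => ?_⟩
  rw [Matrix.smul_apply, Matrix.mul_assoc]
  have key : ∀ M : Mn, ((g : Mn)ᵀ * (M * (g : Mn))) i j =
      ((g : Mn) *ᵥ Pi.single i 1) ⬝ᵥ (M *ᵥ ((g : Mn) *ᵥ Pi.single j 1)) := fun M => by
    rw [mulVec_single_one, mulVec_single_one]
    rfl
  rw [key, ← CfsgLib.FiniteForms.polar_eq]
  show _ = (c : F) • QuadraticMap.polar R (Pi.single i 1) (Pi.single j 1)
  simp only [QuadraticMap.polar, ← Matrix.mulVec_add, hc, smul_eq_mul]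
  ring

/-- An element without conjugates among the similarities. -/
def SLBad (Q : (Fin n → F) → F) (r : ℕ) : Prop :=
  ∃ x ∈ Cfsg.Geo.specialLinear (Fin n) F, (∃ z : F, ((x ^ r : GL (Fin n) F) : Mn) = z • 1) ∧
    (∀ z : F, (x : Mn) ≠ z • 1) ∧ ∀ g ∈ Cfsg.Geo.specialLinear (Fin n) F, g⁻¹ * x * g ∉ Cfsg.Geo.quadSimilarityGroup Q

theorem mem_special_iff (g : GL (Fin n) F) : g ∈ Cfsg.Geo.specialLinear (Fin n) F ↔ (g : Mn).det = 1 := by
  rw [Cfsg.Geo.specialLinear, MonoidHom.mem_ker, Units.ext_iff, Matrix.GeneralLinearGroup.val_det_apply, Units.val_one]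

/-- A matrix that is a similarity of no congruent form gives a bad element. -/
theorem bad_of (R : QuadraticForm F (Fin n → F)) (hG : (CfsgLib.FiniteForms.polarMat ⇑R).det ≠ 0) {r : ℕ} (M : Mn)
    (hdet : M.det = 1) {z : F} (hpow : M ^ r = z • 1)
    (hkey : ∀ G : Mn, G.IsSymm → G.det ≠ 0 → IsSquare (G.det * (CfsgLib.FiniteForms.polarMat ⇑R).det) → ¬ Sim G M) :
    SLBad (⇑R) r := by
  set G₀ := CfsgLib.FiniteForms.polarMat ⇑R
  let x : GL (Fin n) F := Matrix.GeneralLinearGroup.mkOfDetNeZero M (by rw [hdet]; exact one_ne_zero)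
  refine ⟨x, (mem_special_iff x).mpr hdet, ⟨z, by rw [Units.val_pow_eq_pow_val]; exact hpow⟩, fun w hw => ?_,
    fun g _ hmem => ?_⟩
  · refine hkey G₀ (CfsgLib.FiniteForms.polarMat_isSymm _) hG ⟨G₀.det, rfl⟩ ⟨w * w, ?_⟩
    rw [show M = w • 1 from hw]
    simp [smul_smul]
  obtain ⟨c, hc⟩ := sim_of_mem_quad R hmem
  set h := g⁻¹
  set Hm := (h : Mn)
  have hH : Hm.det ≠ 0 := ((Matrix.isUnit_iff_isUnit_det _).mp h.isUnit).ne_zero
  have hgh : (g : Mn) * Hm = 1 := Units.mul_inv g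
  refine hkey (Hmᵀ * G₀ * Hm) ?_ ?_ ?_ ⟨c, ?_⟩
  · rw [Matrix.IsSymm, transpose_mul, transpose_mul, transpose_transpose, (CfsgLib.FiniteForms.polarMat_isSymm _).eq,
      Matrix.mul_assoc]
  · rw [det_mul, det_mul, det_transpose]
    exact mul_ne_zero (mul_ne_zero hH hG) hH
  · exact ⟨Hm.det * G₀.det, by rw [det_mul, det_mul, det_transpose]; ring⟩
  · change (Hm * M * (g : Mn))ᵀ * G₀ * (Hm * M * (g : Mn)) = c • G₀ at hc
    have h1 : Hm * M = Hm * M * (g : Mn) * Hm := by rw [mul_assoc _ (g : Mn), hgh, mul_one]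
    calc Mᵀ * (Hmᵀ * G₀ * Hm) * M = (Hm * M)ᵀ * G₀ * (Hm * M) := by simp only [transpose_mul, Matrix.mul_assoc]
      _ = Hmᵀ * ((Hm * M * (g : Mn))ᵀ * G₀ * (Hm * M * (g : Mn))) * Hm := by
          conv_lhs => rw [h1, transpose_mul]
          simp only [Matrix.mul_assoc]
      _ = c • (Hmᵀ * G₀ * Hm) := by rw [hc, Matrix.mul_smul, Matrix.smul_mul]

/-- Conjugation into the similarities inside the special linear group. -/
theorem conj_into (h2 : (2 : F) ≠ 0) (R : QuadraticForm F (Fin n → F)) (hG : (CfsgLib.FiniteForms.polarMat ⇑R).det ≠ 0)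
    {x : GL (Fin n) F} {g Y G' : Mn} (hg : g.det ≠ 0) (hxg : (x : Mn) * g = g * Y) {μ : F}
    (hY : Yᵀ * G' * Y = μ • G') {c : F} (hc : c ≠ 0)
    (hcong : CfsgLib.FiniteForms.Congr (c • CfsgLib.FiniteForms.polarMat ⇑R) G')
    (hcomm : ∀ t : F, t ≠ 0 → ∃ C : Mn, C.det = t ∧ C * Y = Y * C) :
    ∃ P ∈ Cfsg.Geo.specialLinear (Fin n) F, P⁻¹ * x * P ∈ Cfsg.Geo.quadSimilarityGroup ⇑R := by
  set G₀ := CfsgLib.FiniteForms.polarMat ⇑R
  obtain ⟨P₀, hP₀, hPG⟩ := hcong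
  set Pi := P₀⁻¹
  have hPP : P₀ * Pi = 1 := Matrix.mul_nonsing_inv P₀ (isUnit_iff_ne_zero.mpr hP₀)
  have hPP' : Pi * P₀ = 1 := Matrix.nonsing_inv_mul P₀ (isUnit_iff_ne_zero.mpr hP₀)
  obtain ⟨C, hC, hCY⟩ := hcomm (P₀.det / g.det) (div_ne_zero hP₀ hg)
  set g' := g * C * Pi
  have hdet : g'.det = 1 := by
    rw [det_mul, det_mul, hC, show Pi.det = P₀.det⁻¹ by rw [Matrix.det_nonsing_inv, Ring.inverse_eq_inv']]
    field_simp
  let P : GL (Fin n) F := Matrix.GeneralLinearGroup.mkOfDetNeZero g' (by rw [hdet]; exact one_ne_zero)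
  refine ⟨P, (mem_special_iff P).mpr hdet, mem_quad_of_sim h2 R hG ⟨μ, ?_⟩⟩
  have hxg' : (x : Mn) * g' = g' * (P₀ * Y * Pi) := by
    show (x : Mn) * (g * C * Pi) = g * C * Pi * (P₀ * Y * Pi)
    calc (x : Mn) * (g * C * Pi) = g * (Y * C) * Pi := by simp only [← mul_assoc, hxg]
      _ = g * (C * Y) * Pi := by rw [hCY]
      _ = g * C * (Pi * P₀) * Y * Pi := by rw [hPP', mul_one]; simp only [mul_assoc]
      _ = _ := by simp only [mul_assoc]
  have hval : ((P⁻¹ * x * P : GL (Fin n) F) : Mn) = P₀ * Y * Pi := by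
    rw [Units.val_mul, Units.val_mul, mul_assoc]
    show ((P⁻¹ : GL (Fin n) F) : Mn) * ((x : Mn) * g') = _
    rw [hxg', ← mul_assoc]
    exact (congrArg (· * (P₀ * Y * Pi)) (Units.inv_mul P)).trans (one_mul _)
  rw [hval]
  refine smul_right_injective _ hc ?_
  show c • ((P₀ * Y * Pi)ᵀ * G₀ * (P₀ * Y * Pi)) = c • μ • G₀
  calc c • ((P₀ * Y * Pi)ᵀ * G₀ * (P₀ * Y * Pi)) = Piᵀ * (Yᵀ * (P₀ᵀ * (c • G₀) * P₀) * Y) * Pi := by
        simp only [transpose_mul, Matrix.mul_smul, Matrix.smul_mul, Matrix.mul_assoc]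
    _ = μ • ((P₀ * Pi)ᵀ * (c • G₀) * (P₀ * Pi)) := by
        rw [hPG, hY, ← hPG]
        simp only [transpose_mul, Matrix.mul_smul, Matrix.smul_mul, Matrix.mul_assoc]
    _ = c • μ • G₀ := by rw [hPP, transpose_one, one_mul, mul_one, smul_comm]

/-- An element of finite order prime to the characteristic, with all roots of unity present, is diagonal in some basis. -/
theorem exists_eigen {r : ℕ} (hr : 0 < r) (hrF : (r : F) ≠ 0) {ζ : F} (hζ : IsPrimitiveRoot ζ r) (M : Mn)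
    (hM : M ^ r = 1) :
    ∃ (g : Mn) (k : Fin n → ℕ), g.det ≠ 0 ∧ (∀ i, k i < r) ∧ M * g = g * Matrix.diagonal fun i => ζ ^ k i := by
  classical
  set T : Module.End F (Fin n → F) := Matrix.toLinAlgEquiv' M with hTdef
  have hT : T ^ r = 1 := by rw [hTdef, ← map_pow, hM, map_one]
  have hζ0 : ζ ≠ 0 := hζ.ne_zero hr.ne'
  let E : ℕ → (Fin n → F) → (Fin n → F) := fun j v => ∑ l ∈ Finset.range r, (ζ ^ j)⁻¹ ^ l • (T ^ l) v
  have hTE : ∀ j v, T (E j v) = ζ ^ j • E j v := fun j v => by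
    set w := (ζ ^ j)⁻¹
    have hw : w ^ r = 1 := by rw [inv_pow, ← pow_mul, mul_comm, pow_mul, hζ.pow_eq_one, one_pow, inv_one]
    have hw0 : ζ ^ j ≠ 0 := pow_ne_zero _ hζ0
    show T (∑ l ∈ Finset.range r, w ^ l • (T ^ l) v) = _
    have h1 : ∀ l, T (w ^ l • (T ^ l) v) = ζ ^ j • (w ^ (l + 1) • (T ^ (l + 1)) v) := fun l => by
      rw [map_smul, ← Module.End.mul_apply, ← pow_succ', smul_smul, pow_succ' w, ← mul_assoc,
        mul_inv_cancel₀ hw0, one_mul]
    rw [map_sum, Finset.sum_congr rfl fun l _ => h1 l, ← Finset.smul_sum]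
    congr 1
    have h2 := Finset.sum_range_succ' (fun l => w ^ l • (T ^ l) v) r
    rw [Finset.sum_range_succ] at h2
    rw [hw, hT, pow_zero, pow_zero] at h2
    exact (add_right_cancel h2).symm
  set S : Set (Fin n → F) := {v | ∃ j < r, T v = ζ ^ j • v}
  have hS : ⊤ ≤ Submodule.span F S := fun v _ => by
    have h1 : ∑ j ∈ Finset.range r, E j v = (r : F) • v := by
      show ∑ j ∈ Finset.range r, ∑ l ∈ Finset.range r, (ζ ^ j)⁻¹ ^ l • (T ^ l) v = _
      rw [Finset.sum_comm, Finset.sum_eq_single 0 (fun l hl hl0 => ?_) (fun h => absurd (Finset.mem_range.mpr hr) h)]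
      · simp [Nat.cast_smul_eq_nsmul]
      · rw [← Finset.sum_smul]
        have h2 : ∑ j ∈ Finset.range r, (ζ ^ j)⁻¹ ^ l = 0 := by
          rw [Finset.sum_congr rfl fun j _ => show (ζ ^ j)⁻¹ ^ l = ((ζ ^ l)⁻¹) ^ j by
            rw [inv_pow, inv_pow, ← pow_mul, ← pow_mul, mul_comm]]
          have hne : (ζ ^ l)⁻¹ ≠ 1 := fun h => hl0 (by
            rw [inv_eq_one] at h
            exact Nat.eq_zero_of_dvd_of_lt ((hζ.pow_eq_one_iff_dvd l).mp h) (Finset.mem_range.mp hl))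
          have h3 := geom_sum_mul (ζ ^ l)⁻¹ r
          rw [inv_pow, ← pow_mul, mul_comm l r, pow_mul, hζ.pow_eq_one, one_pow, inv_one, sub_self] at h3
          exact (mul_eq_zero.mp h3).resolve_right (sub_ne_zero.mpr hne)
        rw [h2, zero_smul]
    rw [show v = (r : F)⁻¹ • ∑ j ∈ Finset.range r, E j v by rw [h1, smul_smul, inv_mul_cancel₀ hrF, one_smul]]
    exact Submodule.smul_mem _ _ (Submodule.sum_mem _ fun j hj =>
      Submodule.subset_span ⟨j, Finset.mem_range.mp hj, hTE j v⟩)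
  let B := Basis.ofSpan hS
  have hfin : Fintype (LinearIndepOn.extend (linearIndepOn_empty F id) (Set.empty_subset S)) :=
    FiniteDimensional.fintypeBasisIndex B
  let B' := B.reindex ((Fintype.equivFinOfCardEq (by rw [← Module.finrank_eq_card_basis B, Module.finrank_fin_fun])))
  have hB : ∀ i, B' i ∈ S := fun i => by
    rw [Basis.reindex_apply]
    exact Basis.ofSpan_subset hS ⟨_, rfl⟩
  choose k hk hk' using hB
  refine ⟨Matrix.of fun a i => B' i a, k, ?_, hk, Matrix.ext_of_mulVec_single fun i => ?_⟩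
  · have h := ((Pi.basisFun F (Fin n)).is_basis_iff_det.mp ⟨B'.linearIndependent, B'.span_eq⟩).ne_zero
    rw [Basis.det_apply] at h
    exact h
  · rw [← Matrix.mulVec_mulVec, ← Matrix.mulVec_mulVec, Matrix.diagonal_mulVec_single, mul_one,
      show Pi.single i (ζ ^ k i) = ζ ^ k i • (Pi.single i (1 : F) : Fin n → F) by rw [← Pi.single_smul, smul_eq_mul, mul_one],
      Matrix.mulVec_smul, Matrix.mulVec_single_one]
    exact hk' i

end CfsgLib.OrthSLElusive
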