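/-
Orders, zero counts, and the primes dividing the index of the similarities in the special linear group.
-/
import Cfsg.Agent.Lib.OrthSLElusive.Basic
import Cfsg.Agent.Lib.OrthOrderBase
import Cfsg.Agent.Lib.FiniteForms.WittBasis
import Cfsg.Agent.Lib.StdQuadForms
import Cfsg.Agent.Lib.SLCard
import Cfsg.Agent.Lib.MaxSub.ElusiveSp

set_option autoImplicit false
set_option linter.unusedSectionVars false

namespace CfsgLib.OrthSLElusive

open Matrix Module CfsgLib.WittExtension CfsgLib.FiniteForms CfsgLib.OrthOrder CfsgLib.MaxSub.Elusive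

universe u

variable {F : Type u} [Field F] [Fintype F] {n : ℕ}

theorem card_iso_self (R : QuadraticForm F (Fin n → F)) :
    Nat.card (Cfsg.isometryGroup F ⇑R) = Nat.card (quadIso R) :=
  card_isometryGroup R ⇑R (LinearEquiv.refl F _) fun _ => rfl

/-- Orders and zero counts in even dimension. -/
theorem even_data (R : QuadraticForm F (Fin n → F)) (hR : (QuadraticMap.polarBilin R).Nondegenerate) {m : ℕ}
    (hn : n = 2 * m) (hm : 1 ≤ m) :
    ∃ A B C : ℕ, A * B = Fintype.card F ^ (2 * m) - 1 ∧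
      ((A = Fintype.card F ^ m - 1 ∧ B = Fintype.card F ^ m + 1) ∨
        (A = Fintype.card F ^ m + 1 ∧ B = Fintype.card F ^ m - 1)) ∧
      Nat.card (Cfsg.isometryGroup F ⇑R) = 2 * Fintype.card F ^ (m * (m - 1)) * A *
        ∏ i ∈ Finset.range (m - 1), (Fintype.card F ^ (2 * (i + 1)) - 1) ∧
      Nat.card {v : Fin n → F // R v = 0} = A * C + 1 ∧
      ∀ r : ℕ, r ∣ B → r ∣ C → r ∣ Fintype.card F ^ (m - 1) * (Fintype.card F - 1) := by
  classical
  set q := Fintype.card F with hq
  have hq1 : 1 < q := Fintype.one_lt_card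
  obtain ⟨k, rfl⟩ : ∃ k, m = k + 1 := ⟨m - 1, by omega⟩
  have hP : 1 ≤ q ^ (k + 1) := Nat.one_le_pow _ _ (by omega)
  have hP' : 1 ≤ q ^ k := Nat.one_le_pow _ _ (by omega)
  have hAB : (q ^ (k + 1) - 1) * (q ^ (k + 1) + 1) = q ^ (2 * (k + 1)) - 1 := by
    rw [mul_comm 2, pow_mul, mul_comm (q ^ (k + 1) - 1), ← Nat.sq_sub_sq, one_pow]
  have hdiff : q ^ k * (q - 1) + q ^ k = q ^ (k + 1) := by
    rw [← Nat.mul_succ, Nat.succ_eq_add_one, Nat.sub_add_cancel (by omega), pow_succ]
  have hpow : q ^ (2 * (k + 1) - 1) = q ^ (k + 1) * q ^ k := by rw [← pow_add]; congr 1; omega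
  have hnd : CfsgLib.FiniteForms.PolarNondeg R := fun x h => hR.1 x h
  rcases even_dichotomy hnd hm (by rw [Module.finrank_fin_fun, hn]) with
    ⟨e, f, h⟩ | ⟨e, f, x, y, h, hx, hy, hQx, hxy, ht, hli⟩
  · obtain ⟨g, hg⟩ := isometry_of_hypFam h (by rw [Module.finrank_fin_fun, hn])
    refine ⟨q ^ (k + 1) - 1, q ^ (k + 1) + 1, q ^ k + 1, hAB, Or.inl ⟨rfl, rfl⟩, ?_, ?_, fun r h1 h2 => ?_⟩
    · rw [card_iso_self, ← card_isometryGroup R (Cfsg.quadFormPlus (k + 1) F) g fun w => (hg w).symm,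
        card_O_plus (k + 1) hm]
    · rw [Nat.card_congr (g.toEquiv.subtypeEquiv (q := fun v => Cfsg.quadFormPlus (k + 1) F v = 0)
        fun v => by rw [LinearEquiv.coe_toEquiv, ← hg]), CfsgLib.QuadCount.card_plus (k + 1) hm, ← hq, hpow,
        show k + 1 - 1 = k from rfl]
      obtain ⟨a, ha⟩ : ∃ a, q ^ (k + 1) = a + 1 := ⟨q ^ (k + 1) - 1, by omega⟩
      rw [ha, Nat.add_sub_cancel]
      refine Nat.sub_eq_of_eq_add ?_
      ring
    · have h3 := Nat.dvd_sub h1 h2
      rw [show k + 1 - 1 = k from rfl]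
      rwa [show q ^ (k + 1) + 1 - (q ^ k + 1) = q ^ k * (q - 1) by omega] at h3
  · obtain ⟨g, hg⟩ := isometry_of_elliptic h hx hy hxy hQx hli (by rw [Module.finrank_fin_fun, hn]; omega)
    have hab := anisotropic_of_no_root ht
    refine ⟨q ^ (k + 1) + 1, q ^ (k + 1) - 1, q ^ k - 1, by rw [mul_comm, hAB], Or.inr ⟨rfl, rfl⟩, ?_, ?_, fun r h1 h2 => ?_⟩
    · rw [card_iso_self, ← card_isometryGroup R _ g fun w => (hg w).symm, card_O_minus (k + 1) hm 1 (R y) hab]
    · rw [Nat.card_congr (g.toEquiv.subtypeEquiv (q := fun v => Cfsg.quadFormMinus (k + 1 - 1) F 1 (R y) v = 0)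
        fun v => by rw [LinearEquiv.coe_toEquiv, ← hg]), CfsgLib.QuadCount.card_minus (k + 1) hm 1 (R y) hab, ← hq, hpow,
        show k + 1 - 1 = k from rfl]
      obtain ⟨a, ha⟩ : ∃ a, q ^ k = a + 1 := ⟨q ^ k - 1, by omega⟩
      rw [ha, Nat.add_sub_cancel]
      refine Nat.sub_eq_of_eq_add ?_
      ring
    · have h3 := Nat.dvd_sub h1 h2
      rw [show k + 1 - 1 = k from rfl]
      rwa [show q ^ (k + 1) - 1 - (q ^ k - 1) = q ^ k * (q - 1) by omega] at h3

/-- The order in odd dimension. -/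
theorem odd_data (hodd : Odd (Fintype.card F)) (R : QuadraticForm F (Fin n → F))
    (hR : (QuadraticMap.polarBilin R).Nondegenerate) {m : ℕ} (hn : n = 2 * m + 1) :
    Nat.card (Cfsg.isometryGroup F ⇑R) =
      2 * Fintype.card F ^ (m ^ 2) * ∏ i ∈ Finset.range m, (Fintype.card F ^ (2 * (i + 1)) - 1) := by
  classical
  have h2 : (2 : F) ≠ 0 := two_ne_zero_of_odd rfl hodd
  let e : Fin n ≃ Unit ⊕ (Fin m ⊕ Fin m) := Fintype.equivOfCardEq (by simp [hn]; omega)
  let L : (Fin n → F) ≃ₗ[F] (Unit ⊕ (Fin m ⊕ Fin m) → F) := LinearEquiv.funCongrLeft F F e.symm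
  let Qs : QuadraticForm F (Fin n → F) := (CfsgLib.StdQuadForms.Qo m).comp L.toLinearMap
  have hQs : (QuadraticMap.polarBilin Qs).Nondegenerate := by
    have hl : ∀ x, (∀ y, QuadraticMap.polar Qs x y = 0) → x = 0 := fun x hx => by
      refine L.map_eq_zero_iff.mp ((CfsgLib.StdQuadForms.Qo_nondeg h2 m).1 _ fun y => ?_)
      obtain ⟨y, rfl⟩ := L.surjective y
      have := hx y
      simpa [Qs, QuadraticMap.polar, map_add] using this
    exact ⟨fun x hx => hl x hx, fun v hv => hl v fun u => (QuadraticMap.polar_comm _ v u).trans (hv u)⟩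
  set c := (polarMat ⇑R).det * (polarMat ⇑Qs).det with hc
  have hc0 : c ≠ 0 := mul_ne_zero (polarMat_det_ne_zero hR) (polarMat_det_ne_zero hQs)
  obtain ⟨g, hg⟩ := isometry_of_congr h2 (c • R) Qs ((congr_iff h2 (polarMat_isSymm _) (polarMat_isSymm _)
    (polarMat_det_ne_zero hQs) (by
      rw [polarMat_smul, det_smul]
      exact mul_ne_zero (pow_ne_zero _ hc0) (polarMat_det_ne_zero hR))).mpr (by
    refine ⟨c ^ (m + 1), ?_⟩
    rw [polarMat_smul, det_smul, Fintype.card_fin, ← pow_add, show m + 1 + (m + 1) = n + 1 by omega, pow_succ, hc]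
    ring))
  have heq : quadIso (c • R) = quadIso R := by
    ext g
    exact forall_congr' fun v => by
      rw [QuadraticMap.smul_apply, QuadraticMap.smul_apply, smul_eq_mul, smul_eq_mul, mul_right_inj' hc0]
  rw [card_iso_self, ← heq, ← card_isometryGroup (c • R) (Cfsg.quadFormOdd m F) (g.trans L) fun w => by
    rw [LinearEquiv.trans_apply, ← CfsgLib.StdQuadForms.Qo_apply]
    exact hg w]
  exact card_O_odd hodd m

/-- Isometries of determinant one lie in the similarities inside the special linear group. -/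
theorem card_iso_dvd (R : QuadraticForm F (Fin n → F)) (hR : (polarMat ⇑R).det ≠ 0) :
    Nat.card (Cfsg.isometryGroup F ⇑R) ∣
      2 * Nat.card ↥(Cfsg.Geo.quadSimilarityGroup ⇑R ⊓ Cfsg.Geo.specialLinear (Fin n) F) := by
  classical
  set G := polarMat ⇑R
  let φ : Cfsg.isometryGroup F ⇑R →* Fˣ := Matrix.GeneralLinearGroup.det.comp (Subgroup.subtype _)
  have hpm : ∀ g : Cfsg.isometryGroup F ⇑R, φ g ^ 2 = 1 := fun g => by
    have hmem : g.1 ∈ Cfsg.Geo.quadSimilarityGroup ⇑R := ⟨1, fun v => by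
      rw [Units.val_one, one_mul]; exact g.2 v v⟩
    have hiso : ∀ v, R ((g.1 : Matrix (Fin n) (Fin n) F) *ᵥ v) = R v := fun v => g.2 v v
    have hG : (g.1 : Matrix (Fin n) (Fin n) F)ᵀ * G * (g.1 : Matrix (Fin n) (Fin n) F) = G := by
      ext i j
      rw [Matrix.mul_assoc]
      show _ = QuadraticMap.polar R (Pi.single i 1) (Pi.single j 1)
      rw [← (show ((g.1 : Matrix (Fin n) (Fin n) F) *ᵥ Pi.single i 1) ⬝ᵥ (G *ᵥ ((g.1 : Matrix (Fin n) (Fin n) F) *ᵥ Pi.single j 1)) =
        ((g.1 : Matrix (Fin n) (Fin n) F)ᵀ * (G * (g.1 : Matrix (Fin n) (Fin n) F))) i j by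
          rw [mulVec_single_one, mulVec_single_one]; rfl), ← polar_eq]
      simp only [QuadraticMap.polar, ← Matrix.mulVec_add, hiso]
    refine Units.ext ?_
    show ((g.1 : Matrix (Fin n) (Fin n) F).det) ^ 2 = 1
    have h := congrArg Matrix.det hG
    rw [det_mul, det_mul, det_transpose] at h
    exact mul_right_cancel₀ hR (by rw [one_mul, pow_two]; linear_combination h)
  have hker : Nat.card φ.ker ∣ Nat.card ↥(Cfsg.Geo.quadSimilarityGroup ⇑R ⊓ Cfsg.Geo.specialLinear (Fin n) F) := by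
    refine Subgroup.card_dvd_of_injective (((Cfsg.isometryGroup F ⇑R).subtype.comp φ.ker.subtype).codRestrict _
      fun g => ⟨⟨1, fun v => by rw [Units.val_one, one_mul]; exact g.1.2 v v⟩, g.2⟩) ?_
    exact fun a b h => Subtype.ext (Subtype.ext (congrArg (fun y : ↥(Cfsg.Geo.quadSimilarityGroup ⇑R ⊓
      Cfsg.Geo.specialLinear (Fin n) F) => y.1) h))
  have hrange : Nat.card φ.range ∣ 2 := by
    refine (Subgroup.card_dvd_of_le (K := (powMonoidHom 2 : Fˣ →* Fˣ).ker) ?_).trans ?_
    · rintro _ ⟨g, rfl⟩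
      exact hpm g
    · rw [IsCyclic.card_powMonoidHom_ker, Nat.gcd_comm]
      exact Nat.gcd_dvd_left _ _
  rw [← φ.ker.index_mul_card, Subgroup.index_ker]
  exact mul_dvd_mul hrange hker

variable {p r : ℕ} [Fact p.Prime] [CharP F p]

include p in
/-- What a prime dividing the index tells about the order of `q`. -/
theorem order_facts (hodd : Odd (Fintype.card F)) (hn : 3 ≤ n) (R : QuadraticForm F (Fin n → F))
    (hR : (QuadraticMap.polarBilin R).Nondegenerate) (hr : r.Prime) (hr2 : r ≠ 2) (hrp : r ≠ p)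
    (hΩ : r ∣ (Cfsg.Geo.quadSimilarityGroup ⇑R).relIndex (Cfsg.Geo.specialLinear (Fin n) F)) :
    orderOf (Fintype.card F : ZMod r) ≤ n ∧
      (Even (orderOf (Fintype.card F : ZMod r)) → orderOf (Fintype.card F : ZMod r) ∣ n ∧
        ∃ m A C : ℕ, n = 2 * m ∧ Nat.card {v : Fin n → F // R v = 0} = A * C + 1 ∧ ¬ r ∣ A * C) := by
  classical
  have := Fact.mk hr
  set q := Fintype.card F with hq
  set i := orderOf (q : ZMod r) with hidef
  set SL := Cfsg.Geo.specialLinear (Fin n) F
  set H := Cfsg.Geo.quadSimilarityGroup ⇑R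
  have hq1 : 1 < q := Fintype.one_lt_card
  have hdvd : ∀ k, r ∣ q ^ k - 1 → i ∣ k := fun k h => by
    refine orderOf_dvd_of_pow_eq_one ?_
    have := (ZMod.natCast_eq_zero_iff _ _).mpr h
    rw [Nat.cast_sub (Nat.one_le_pow _ _ (by omega)), sub_eq_zero] at this
    push_cast at this
    exact this
  have hqr : ¬ r ∣ q := fun h => hrp ((dvd_q_iff (F := F) hr).mp h)
  have hfq : ∀ k, (q ^ k).factorization r = 0 := fun k => by
    rw [Nat.factorization_pow, Finsupp.smul_apply, Nat.factorization_eq_zero_of_not_dvd hqr, smul_zero]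
  have hf2 : (2 : ℕ).factorization r = 0 := Nat.factorization_eq_zero_of_not_dvd fun h =>
    hr2 ((Nat.prime_dvd_prime_iff_eq hr Nat.prime_two).mp h)
  have hne : ∀ k, 1 ≤ k → q ^ k - 1 ≠ 0 := fun k hk => (Nat.sub_pos_of_lt (Nat.one_lt_pow (by omega) hq1)).ne'
  have hGL : (Nat.card (GL (Fin n) F)).factorization r = ∑ k ∈ Finset.range n, (q ^ (k + 1) - 1).factorization r := by
    rw [Matrix.card_GL_field, Nat.factorization_prod_apply fun (j : Fin n) _ =>
      (Nat.sub_pos_of_lt (Nat.pow_lt_pow_right hq1 j.2)).ne',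
      Fin.sum_univ_eq_sum_range (fun j => (q ^ n - q ^ j).factorization r), ← Finset.sum_range_reflect]
    refine Finset.sum_congr rfl fun k hk => ?_
    have hkn := Finset.mem_range.mp hk
    rw [q_pow_factor (Nat.sub_le _ _ |>.trans (Nat.sub_le _ _)), Nat.factorization_mul (pow_ne_zero _ (by omega)) (hne _ (by omega)),
      Finsupp.add_apply, hfq, zero_add, show n - (n - 1 - k) = k + 1 by omega]
  have hSL : (q - 1) * Nat.card SL = Nat.card (GL (Fin n) F) := by
    have h := (Matrix.GeneralLinearGroup.det : GL (Fin n) F →* Fˣ).ker.index_mul_card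
    rw [Subgroup.index_ker, MonoidHom.range_eq_top.mpr (CfsgLib.SLCard.det_surjective (by omega)), Subgroup.card_top,
      Nat.card_units, Nat.card_eq_fintype_card (α := F)] at h
    exact h
  have hidx : H.relIndex SL * Nat.card ↥(H ⊓ SL) = Nat.card SL := by
    rw [← Subgroup.inf_relIndex_right]
    have h1 := ((H ⊓ SL).subgroupOf SL).index_mul_card
    rwa [Nat.card_congr (Subgroup.subgroupOfEquivOfLe inf_le_right).toEquiv] at h1
  have hH0 : Nat.card ↥(H ⊓ SL) ≠ 0 := Nat.card_pos.ne'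
  have hI0 : H.relIndex SL ≠ 0 := left_ne_zero_of_mul (a := H.relIndex SL) (hidx ▸ Nat.card_pos.ne')
  have hv : (H.relIndex SL).factorization r + (Nat.card ↥(H ⊓ SL)).factorization r + (q - 1).factorization r =
      ∑ k ∈ Finset.range n, (q ^ (k + 1) - 1).factorization r := by
    rw [← hGL, ← hSL, Nat.factorization_mul (by omega) (by rw [← hidx]; exact mul_ne_zero hI0 hH0), ← hidx,
      Nat.factorization_mul hI0 hH0]
    simp only [Finsupp.add_apply]
    ring
  have hpos : 0 < (H.relIndex SL).factorization r := hr.factorization_pos_of_dvd hI0 hΩ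
  refine ⟨?_, fun hev => ?_⟩
  · by_contra hlt
    push Not at hlt
    have : ∑ k ∈ Finset.range n, (q ^ (k + 1) - 1).factorization r = 0 :=
      Finset.sum_eq_zero fun k hk => Nat.factorization_eq_zero_of_not_dvd fun h => by
        have := Nat.le_of_dvd (Nat.succ_pos k) (hdvd _ h)
        have := Finset.mem_range.mp hk
        omega
    omega
  have hoddk : ∀ k, (q ^ (2 * k + 1) - 1).factorization r = 0 := fun k =>
    Nat.factorization_eq_zero_of_not_dvd fun h =>
      Nat.not_even_two_mul_add_one k (even_iff_two_dvd.mpr (hev.two_dvd.trans (hdvd _ h)))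
  have hcard := card_iso_dvd R (polarMat_det_ne_zero hR)
  have hle : (Nat.card (Cfsg.isometryGroup F ⇑R)).factorization r ≤ (Nat.card ↥(H ⊓ SL)).factorization r := by
    have h1 := (Nat.factorization_le_iff_dvd Nat.card_pos.ne' (mul_ne_zero two_ne_zero hH0)).mpr hcard r
    rwa [Nat.factorization_mul two_ne_zero hH0, Finsupp.add_apply, hf2, zero_add] at h1
  rcases Nat.even_or_odd' n with ⟨m, hm | hm⟩
  swap
  · exfalso
    rw [odd_data hodd R hR hm, Nat.factorization_mul (mul_ne_zero two_ne_zero (pow_ne_zero _ (by omega)))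
      (Finset.prod_ne_zero_iff.mpr fun k _ => hne _ (by omega)), Finsupp.add_apply,
      Nat.factorization_mul two_ne_zero (pow_ne_zero _ (by omega)), Finsupp.add_apply, hf2, hfq,
      Nat.factorization_prod_apply fun k _ => hne _ (by omega)] at hle
    rw [show Finset.range n = Finset.range (2 * m + 1) by rw [hm], Finset.sum_range_succ,
      sum_even_terms (fun k => (q ^ k - 1).factorization r) hoddk, hoddk] at hv
    omega
  obtain ⟨A, B, C, hAB, hsh, hO, hN, hBC⟩ := even_data R hR hm (by omega)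
  have hABne : A * B ≠ 0 := hAB ▸ hne _ (by omega)
  rw [hO, Nat.factorization_mul (mul_ne_zero (mul_ne_zero two_ne_zero (pow_ne_zero _ (by omega))) (left_ne_zero_of_mul hABne))
      (Finset.prod_ne_zero_iff.mpr fun k _ => hne _ (by omega)), Finsupp.add_apply,
    Nat.factorization_mul (mul_ne_zero two_ne_zero (pow_ne_zero _ (by omega))) (left_ne_zero_of_mul hABne), Finsupp.add_apply,
    Nat.factorization_mul two_ne_zero (pow_ne_zero _ (by omega)), Finsupp.add_apply, hf2, hfq,
    Nat.factorization_prod_apply fun k _ => hne _ (by omega)] at hle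
  rw [show Finset.range n = Finset.range (2 * m) by rw [hm], sum_even_terms (fun k => (q ^ k - 1).factorization r) hoddk,
    show m = m - 1 + 1 by omega, Finset.sum_range_succ, show m - 1 + 1 = m by omega, ← hAB,
    Nat.factorization_mul (left_ne_zero_of_mul hABne) (right_ne_zero_of_mul hABne), Finsupp.add_apply] at hv
  have hB : r ∣ B := Nat.dvd_of_factorization_pos (show B.factorization r ≠ 0 by omega)
  have hi1 : i ≠ 1 := fun h1 => Nat.not_even_one (h1 ▸ hev)
  have hq1' : ¬ r ∣ q - 1 := fun h => hi1 (Nat.dvd_one.mp (hdvd 1 (by rwa [pow_one])))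
  refine ⟨hm ▸ hdvd _ (hAB ▸ dvd_mul_of_dvd_right hB A), m, A, C, hm, hN, fun h => ?_⟩
  rcases hr.dvd_mul.mp h with hA | hC
  · -- the two halves of `q ^ n - 1` differ by two
    have h2 : r ∣ 2 := by
      rcases hsh with ⟨h3, h4⟩ | ⟨h3, h4⟩
      · rw [h3] at hA; rw [h4] at hB
        have h5 := Nat.dvd_sub hB hA
        rwa [show q ^ m + 1 - (q ^ m - 1) = 2 by have := Nat.one_le_pow m q (by omega); omega] at h5
      · rw [h3] at hA; rw [h4] at hB
        have h5 := Nat.dvd_sub hA hB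
        rwa [show q ^ m + 1 - (q ^ m - 1) = 2 by have := Nat.one_le_pow m q (by omega); omega] at h5
    exact hr2 ((Nat.prime_dvd_prime_iff_eq hr Nat.prime_two).mp h2)
  · rcases hr.dvd_mul.mp (hBC r hB hC) with h1 | h1
    · exact hqr (hr.dvd_of_dvd_pow h1)
    · exact hq1' h1

end CfsgLib.OrthSLElusive
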