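/-
Elements of odd prime order without conjugates among the similarities of a quadratic form.
-/
import Cfsg.Agent.Lib.OrthSLElusive.Order
import Cfsg.Agent.Lib.MaxSub.ElusiveImprim

set_option autoImplicit false
set_option linter.unusedSectionVars false

namespace CfsgLib.OrthSLElusive

open Polynomial Matrix Module CfsgLib.FiniteForms CfsgLib.MaxSub.Elusive

universe u

variable {F : Type u} [Field F] [Fintype F] {n : ℕ} {p r : ℕ} [Fact p.Prime] [CharP F p] [Fact r.Prime]

local notation "Mn" => Matrix (Fin n) (Fin n) F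

theorem sim_pow {G M : Mn} {c : F} (h : Mᵀ * G * M = c • G) (k : ℕ) : (M ^ k)ᵀ * G * M ^ k = c ^ k • G := by
  induction k with
  | zero => simp
  | succ k ih =>
    rw [pow_succ, transpose_mul, show Mᵀ * (M ^ k)ᵀ * G * (M ^ k * M) = Mᵀ * ((M ^ k)ᵀ * G * M ^ k) * M by
      simp only [Matrix.mul_assoc], ih, Matrix.mul_smul, Matrix.smul_mul, h, smul_smul, ← pow_succ]

theorem multiplier_eq {G M : Mn} (hG : G.det ≠ 0) (hn : 0 < n) {c : F} (h : Mᵀ * G * M = c • G) {k : ℕ}
    (hM : M ^ k = 1) : c ^ k = 1 := by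
  have h1 := sim_pow h k
  rw [hM, transpose_one, one_mul, mul_one] at h1
  refine (smul_left_injective F (fun h0 => hG ?_) ((one_smul F G).trans h1)).symm
  have : Nonempty (Fin n) := ⟨⟨0, hn⟩⟩
  rw [h0, det_zero]

/-- A transvection. -/
theorem bad_char (h2 : (2 : F) ≠ 0) (hn : 2 ≤ n) (R : QuadraticForm F (Fin n → F)) (hG : (polarMat ⇑R).det ≠ 0) :
    SLBad (⇑R) p := by
  classical
  set a : Fin n := ⟨0, by omega⟩
  set b : Fin n := ⟨1, by omega⟩
  have hab : a ≠ b := by simp [a, b]
  set N : Mn := Matrix.single a b 1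
  have hN : N * N = 0 := by simp [N, Matrix.single_mul_single_of_ne, hab.symm]
  have hpow : ∀ k : ℕ, (1 + N) ^ k = 1 + (k : F) • N := fun k => by
    induction k with
    | zero => simp
    | succ k ih =>
      rw [pow_succ, ih, add_mul, one_mul, mul_add, mul_one, Matrix.smul_mul, hN, smul_zero, Nat.cast_succ, add_smul, one_smul]
      abel
  have hdet : (1 + N).det = 1 := Matrix.det_transvection_of_ne a b hab 1
  have hp1 : (1 + N) ^ p = 1 := by rw [hpow, CharP.cast_eq_zero, zero_smul, add_zero]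
  refine bad_of R hG (1 + N) hdet (z := 1) (by rw [hp1, one_smul]) fun G hS hG' _ => ?_
  rintro ⟨c, hc⟩
  have hc1 : c = 1 := frobenius_inj F p (by
    rw [frobenius_def, frobenius_def, multiplier_eq hG' (by omega) hc hp1, one_pow])
  rw [hc1, one_smul, transpose_add, transpose_one] at hc
  have key : ∀ i j, (if i = b then G a j else 0) + (if j = b then G i a else 0) +
      (if i = b ∧ j = b then G a a else 0) = 0 := fun i j => by
    have h := congrFun (congrFun hc i) j
    simp only [add_mul, mul_add, one_mul, mul_one, Matrix.add_apply] at h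
    rw [show (Nᵀ * G) i j = if i = b then G a j else 0 by
        by_cases hi : i = b
        · subst hi; simp [N, Matrix.transpose_single]
        · simp [N, Matrix.transpose_single, hi],
      show (G * N) i j = if j = b then G i a else 0 by
        by_cases hj : j = b
        · subst hj; simp [N]
        · simp [N, hj],
      show (Nᵀ * G * N) i j = if i = b ∧ j = b then G a a else 0 by
        by_cases hi : i = b <;> by_cases hj : j = b <;> simp [N, Matrix.transpose_single, hi, hj]] at h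
    linear_combination h
  have h0 : ∀ j, j ≠ b → G a j = 0 := fun j hj => by simpa [hj] using key b j
  refine hG' (Matrix.det_eq_zero_of_row_eq_zero a fun j => ?_)
  by_cases hj : j = b
  · subst hj
    have h := key b b
    rw [if_pos rfl, if_pos rfl, if_pos ⟨rfl, rfl⟩, h0 a hab, hS.apply a b, add_zero, ← two_mul] at h
    exact (mul_eq_zero.mp h).resolve_left h2
  · exact h0 j hj

/-- An isometry of odd order moves a space of even dimension. -/
theorem even_moved (h2 : (2 : F) ≠ 0) {G M : Mn} (hS : G.IsSymm) (hG : G.det ≠ 0) (h : Mᵀ * G * M = G)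
    (hr : Odd r) (hrp : r ≠ p) (hM : M ^ r = 1) :
    Even (finrank F (LinearMap.range (Matrix.toLinAlgEquiv' M - 1))) := by
  classical
  set T := Matrix.toLinAlgEquiv' M with hTdef
  have hT : T ^ r = 1 := by rw [hTdef, ← map_pow, hM, map_one]
  set W := LinearMap.range (T - 1)
  set B : LinearMap.BilinForm F (Fin n → F) := Matrix.toBilin' G
  have hTB : ∀ u v, B (T u) (T v) = B u v := fun u v => by
    rw [Matrix.toBilin'_apply', Matrix.toBilin'_apply']
    show (M *ᵥ u) ⬝ᵥ (G *ᵥ (M *ᵥ v)) = _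
    conv_rhs => rw [← h]
    rw [← mulVec_mulVec, ← mulVec_mulVec, dotProduct_mulVec u Mᵀ, vecMul_transpose]
  have hTW : ∀ v ∈ W, T v ∈ W := by
    rintro _ ⟨v, rfl⟩
    exact ⟨T v, by simp⟩
  set BW : LinearMap.BilinForm F W := B.restrict W
  have hnd : BW.Nondegenerate := by
    have hdim := LinearMap.finrank_range_add_finrank_ker (T - 1)
    have hinf := ker_inf_range (p := p) T (Fact.out : r.Prime) hrp hT
    have htop : LinearMap.ker (T - 1) ⊔ W = ⊤ := by
      refine Submodule.eq_top_of_finrank_eq ?_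
      have h1 := Submodule.finrank_sup_add_finrank_inf_eq (LinearMap.ker (T - 1)) W
      rw [hinf, finrank_bot, add_zero] at h1
      have h3 : finrank F (LinearMap.range (T - 1)) = finrank F W := rfl
      omega
    have horth : ∀ w ∈ W, ∀ u ∈ LinearMap.ker (T - 1), B w u = 0 := by
      rintro _ ⟨v, rfl⟩ u hu
      have hu' : T u = u := sub_eq_zero.mp hu
      rw [LinearMap.sub_apply, Module.End.one_apply, map_sub, LinearMap.sub_apply, sub_eq_zero]
      conv_rhs => rw [← hTB, hu']
    have hB : B.Nondegenerate := Matrix.nondegenerate_toBilin'_iff.mpr (Matrix.nondegenerate_of_det_ne_zero hG)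
    have hl : ∀ w : W, (∀ v, BW w v = 0) → w = 0 := fun w hw => Subtype.ext (hB.1 w.1 fun v => by
      obtain ⟨u, hu, v', hv', rfl⟩ := Submodule.mem_sup.mp (htop ▸ Submodule.mem_top : v ∈ LinearMap.ker (T - 1) ⊔ W)
      rw [map_add, horth _ w.2 u hu, zero_add]
      exact hw ⟨v', hv'⟩)
    exact ⟨hl, fun w hw => hl w fun v => by
      rw [← hw v]
      show B w.1 v.1 = B v.1 w.1
      rw [Matrix.toBilin'_apply', Matrix.toBilin'_apply', dotProduct_mulVec, dotProduct_comm, ← mulVec_transpose, hS.eq]⟩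
  let T₀ : W →ₗ[F] W := T.restrict hTW
  let b := Module.finBasis F W
  set A := LinearMap.toMatrix b b T₀
  set G₁ := LinearMap.BilinForm.toMatrix b BW
  have hdet0 : G₁.det ≠ 0 := (LinearMap.BilinForm.nondegenerate_iff_det_ne_zero b).mp hnd
  have hA : Aᵀ * G₁ * A = G₁ := by
    show (LinearMap.toMatrix b b T₀)ᵀ * LinearMap.BilinForm.toMatrix b BW * LinearMap.toMatrix b b T₀ = _
    rw [← LinearMap.BilinForm.toMatrix_comp b b BW T₀ T₀]
    congr 1
    exact LinearMap.ext₂ fun u v => hTB u.1 v.1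
  have hAr : A ^ r = 1 := by
    show (LinearMap.toMatrix b b T₀) ^ r = 1
    rw [LinearMap.toMatrix_pow, show T₀ ^ r = 1 from LinearMap.ext fun v => Subtype.ext (by
      have h1 : ∀ k : ℕ, ((T₀ ^ k) v : Fin n → F) = (T ^ k) v.1 := fun k => by
        induction k with
        | zero => rfl
        | succ k ih => rw [pow_succ', pow_succ', Module.End.mul_apply, Module.End.mul_apply, ← ih]; rfl
      rw [h1, hT]; rfl), LinearMap.toMatrix_one]
  have hdA : A.det = 1 := by
    have h1 : A.det ^ 2 = 1 := by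
      have h2' := congrArg Matrix.det hA
      rw [det_mul, det_mul, det_transpose] at h2'
      exact mul_right_cancel₀ hdet0 (by rw [pow_two, one_mul]; linear_combination h2')
    have h3 : A.det ^ r = 1 := by rw [← det_pow, hAr, det_one]
    obtain ⟨k, hk⟩ := hr
    rwa [hk, pow_succ, pow_mul, h1, one_pow, one_mul] at h3
  have hinj : (A - 1).det ≠ 0 := by
    have h1 : A - 1 = LinearMap.toMatrix b b (T₀ - 1) := by
      show LinearMap.toMatrix b b T₀ - 1 = _
      exact (map_sub (LinearMap.toMatrix b b) T₀ 1).trans (by rw [LinearMap.toMatrix_one]) |>.symm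
    rw [h1, LinearMap.det_toMatrix]
    refine LinearMap.isUnit_iff_ker_eq_bot (T₀ - 1) |> fun hiff => ?_
    intro h0
    have hk : LinearMap.ker (T₀ - 1) = ⊥ := (Submodule.eq_bot_iff _).mpr fun w hw => Subtype.ext (by
      have hw' : T w.1 - w.1 = 0 := congrArg Subtype.val (LinearMap.mem_ker.mp hw)
      have := ker_inf_range (p := p) T (Fact.out : r.Prime) hrp hT
      exact (Submodule.eq_bot_iff _).mp this w.1 ⟨hw', w.2⟩)
    exact (LinearMap.bot_lt_ker_of_det_eq_zero h0).ne' hk
  have hrel : (Aᵀ - 1) * G₁ * A = G₁ * (1 - A) := by rw [sub_mul, sub_mul, hA, one_mul, mul_sub, mul_one]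
  have hd := congrArg Matrix.det hrel
  rw [det_mul, det_mul, hdA, mul_one, det_mul, show Aᵀ - 1 = (A - 1)ᵀ by rw [transpose_sub, transpose_one], det_transpose,
    show (1 : Matrix _ _ F) - A = -(A - 1) by rw [neg_sub], det_neg, Fintype.card_fin] at hd
  by_contra hodd
  rw [(Nat.not_even_iff_odd.mp hodd).neg_one_pow] at hd
  exact mul_ne_zero (mul_ne_zero h2 hinj) hdet0 (by linear_combination hd)

/-- A single block of odd dimension. -/
theorem bad_block (h2 : (2 : F) ≠ 0) (R : QuadraticForm F (Fin n → F)) (hG : (polarMat ⇑R).det ≠ 0)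
    (hr : Odd r) (hrp : r ≠ p) (hi : 2 ≤ orderOf (Fintype.card F : ZMod r)) (ho : Odd (orderOf (Fintype.card F : ZMod r)))
    (hin : orderOf (Fintype.card F : ZMod r) ≤ n) : SLBad (⇑R) r := by
  have hrP : r.Prime := Fact.out
  obtain ⟨x, hx1, -, -, hx4⟩ := exists_blocks_element (F := F) (p := p) (n := n) (s := 1) hrP hrp hi le_rfl (by rw [one_mul]; exact hin)
  rw [Matrix.SpecialLinearGroup.coe_pow] at hx1
  have hpow : (x : Mn) ^ r = 1 := by rw [hx1, one_smul]
  refine bad_of R hG (x : Mn) x.2 (z := 1) hx1 fun G hS hG' _ => ?_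
  rintro ⟨c, hc⟩
  have hq1 : ¬ r ∣ Fintype.card F - 1 := fun hd => by
    have h3 : (Fintype.card F : ZMod r) = 1 := by
      have := (ZMod.natCast_eq_zero_iff _ _).mpr hd
      rwa [Nat.cast_sub Fintype.card_pos, Nat.cast_one, sub_eq_zero] at this
    rw [h3, orderOf_one] at hi
    omega
  rw [root_unity_one hrP hq1 (multiplier_eq hG' (by omega) hc hpow), one_smul] at hc
  have hev := even_moved (p := p) h2 hS hG' hc hr hrp hpow
  have h1 := LinearMap.finrank_range_add_finrank_ker (Matrix.toLinAlgEquiv' (x : Mn) - 1)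
  rw [hx4, Module.finrank_fin_fun, one_mul] at h1
  refine (Nat.not_even_iff_odd.mpr ho) ?_
  rwa [show finrank F (LinearMap.range (Matrix.toLinAlgEquiv' (x : Mn) - 1)) = orderOf (Fintype.card F : ZMod r) by omega] at hev

/-- A fixed-point-free element and the singular vectors. -/
theorem bad_free (R : QuadraticForm F (Fin n → F)) (hrp : r ≠ p)
    (hi : 2 ≤ orderOf (Fintype.card F : ZMod r)) (hin : orderOf (Fintype.card F : ZMod r) ∣ n) (hn : 0 < n) {N : ℕ}
    (hN : Nat.card {v : Fin n → F // R v = 0} = N + 1) (hrN : ¬ r ∣ N) : SLBad (⇑R) r := by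
  classical
  have hrP : r.Prime := Fact.out
  obtain ⟨s, hs⟩ := hin
  set i := orderOf (Fintype.card F : ZMod r)
  have hs1 : 1 ≤ s := Nat.pos_of_ne_zero fun h => by rw [h, mul_zero] at hs; omega
  have hsi : s * i = n := by rw [mul_comm, ← hs]
  obtain ⟨x, hx1, hxns, -, hx4⟩ := exists_blocks_element (F := F) (p := p) (n := n) (s := s) hrP hrp hi hs1 hsi.le
  rw [hsi, Nat.sub_self, Submodule.finrank_eq_zero, LinearMap.ker_eq_bot] at hx4
  have hfix : ∀ v, (x : Mn) *ᵥ v = v → v = 0 := fun v hv => hx4 (by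
    rw [map_zero, LinearMap.sub_apply, Module.End.one_apply, Matrix.toLinAlgEquiv'_apply, hv, sub_self])
  rw [Matrix.SpecialLinearGroup.coe_pow] at hx1
  have hpow : (x : Mn) ^ r = 1 := by rw [hx1, one_smul]
  let y : GL (Fin n) F := Matrix.SpecialLinearGroup.toGL x
  have hy : (y : Mn) = (x : Mn) := rfl
  refine ⟨y, (mem_special_iff y).mpr x.2, ⟨1, by rw [Units.val_pow_eq_pow_val, hy]; exact hx1⟩, hxns, fun g _ hmem => ?_⟩
  obtain ⟨c, hc⟩ := hmem
  set w := g⁻¹ * y * g with hw
  have hwr : w ^ r = 1 := by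
    have h : (g⁻¹ * y * g) ^ r = g⁻¹ * y ^ r * g := by simpa using conj_pow (a := g⁻¹) (b := y) (i := r)
    rw [hw, h, show y ^ r = 1 from Units.ext (by rw [Units.val_pow_eq_pow_val, hy, hpow, Units.val_one]), mul_one,
      inv_mul_cancel]
  have hc' : ∀ v, R ((w : Mn) *ᵥ v) = (c : F) * R v := hc
  let H : Subgroup (GL (Fin n) F) := Subgroup.zpowers w
  have hord : Nat.card H ∣ r := by rw [Nat.card_zpowers]; exact orderOf_dvd_of_pow_eq_one hwr
  have hHinv : ∀ h ∈ H, ∀ v, R v = 0 → R ((h : Mn) *ᵥ v) = 0 := by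
    intro h hh
    obtain ⟨k, rfl⟩ := mem_powers_iff_mem_zpowers.mpr hh
    intro v hv
    clear hh
    induction k with
    | zero => simpa using hv
    | succ k ih =>
      show R (((w ^ (k + 1) : GL (Fin n) F) : Mn) *ᵥ v) = 0
      rw [pow_succ', Units.val_mul, ← Matrix.mulVec_mulVec, hc', ih, mul_zero]
  let : MulAction H {v : Fin n → F // R v = 0} :=
    { smul := fun h v => ⟨(h.1 : Mn) *ᵥ v.1, hHinv h.1 h.2 v.1 v.2⟩
      one_smul := fun v => Subtype.ext (Matrix.one_mulVec _)
      mul_smul := fun a b v => Subtype.ext (by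
        show ((a.1 * b.1 : GL (Fin n) F) : Mn) *ᵥ v.1 = (a.1 : Mn) *ᵥ ((b.1 : Mn) *ᵥ v.1)
        rw [Units.val_mul, Matrix.mulVec_mulVec]) }
  have hpg : IsPGroup r H := by
    refine IsPGroup.of_card (n := if Nat.card H = 1 then 0 else 1) ?_
    rcases (Nat.dvd_prime hrP).mp hord with h | h
    · rw [if_pos h, h, pow_zero]
    · rw [if_neg (by rw [h]; exact hrP.ne_one), h, pow_one]
  have hmod := hpg.card_modEq_card_fixedPoints {v : Fin n → F // R v = 0}
  have hone : Nat.card (MulAction.fixedPoints H {v : Fin n → F // R v = 0}) = 1 := by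
    rw [Nat.card_eq_one_iff_unique]
    refine ⟨⟨fun a b => ?_⟩, ⟨⟨⟨0, QuadraticMap.map_zero R⟩, fun h => Subtype.ext (show ((h : H).1 : Mn) *ᵥ (0 : Fin n → F) = 0 from Matrix.mulVec_zero _)⟩⟩⟩
    have h0 : ∀ a : MulAction.fixedPoints H {v : Fin n → F // R v = 0}, a.1.1 = 0 := fun a => by
      have h1 : (w : Mn) *ᵥ a.1.1 = a.1.1 := congrArg Subtype.val (a.2 ⟨w, Subgroup.mem_zpowers w⟩)
      have h3 : (y : Mn) *ᵥ ((g : Mn) *ᵥ a.1.1) = (g : Mn) *ᵥ a.1.1 := by
        conv_rhs => rw [← h1]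
        rw [Matrix.mulVec_mulVec, Matrix.mulVec_mulVec, ← Units.val_mul, ← Units.val_mul, hw,
          show g * (g⁻¹ * y * g) = y * g by group]
      have h4 := congrArg (fun u => ((g⁻¹ : GL (Fin n) F) : Mn) *ᵥ u) (hfix _ h3)
      simpa [Matrix.mulVec_mulVec] using h4
    exact Subtype.ext (Subtype.ext ((h0 a).trans (h0 b).symm))
  rw [hN, hone] at hmod
  exact hrN ((Nat.modEq_zero_iff_dvd).mp (Nat.ModEq.add_right_cancel' 1 (by rwa [zero_add])))

theorem count_le {G : Mn} (hG : G.det ≠ 0) {dd : Fin n → F} {c : F}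
    (h : (Matrix.diagonal dd)ᵀ * G * Matrix.diagonal dd = c • G) [DecidableEq F] {x y : F} (hx : x ≠ 0)
    (hxy : x * y = c) :
    (Finset.univ.filter fun a => dd a = x).card ≤ (Finset.univ.filter fun a => dd a = y).card := by
  set S := Finset.univ.filter fun a => dd a = x
  set S' := Finset.univ.filter fun a => dd a = y
  have hsupp : ∀ a ∈ S, ∀ b, b ∉ S' → G a b = 0 := fun a ha b hb => by
    have h' := congrFun (congrFun h a) b
    rw [Matrix.diagonal_transpose, Matrix.mul_diagonal, Matrix.diagonal_mul, Matrix.smul_apply, smul_eq_mul,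
      (Finset.mem_filter.mp ha).2, ← hxy] at h'
    have hb' : dd b ≠ y := fun e => hb (Finset.mem_filter.mpr ⟨Finset.mem_univ b, e⟩)
    exact (mul_eq_zero.mp (show (x * (dd b - y)) * G a b = 0 by linear_combination h')).resolve_left
      (mul_ne_zero hx (sub_ne_zero.mpr hb'))
  let ι : (S → F) →ₗ[F] (Fin n → F) := Function.ExtendByZero.linearMap F (Subtype.val : S → Fin n)
  let L : (S → F) →ₗ[F] (S' → F) :=
    (LinearMap.funLeft F F (Subtype.val : S' → Fin n)).comp ((Matrix.vecMulLinear G).comp ι)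
  have hL : Function.Injective L := (injective_iff_map_eq_zero L).mpr fun v hv => by
    have hw : ι v ᵥ* G = 0 := funext fun b => by
      by_cases hb : b ∈ S'
      · exact congrFun hv ⟨b, hb⟩
      · show ∑ a, ι v a * G a b = 0
        refine Finset.sum_eq_zero fun a _ => ?_
        by_cases ha : a ∈ S
        · simp [hsupp a ha b hb]
        · rw [show ι v a = 0 from Function.extend_apply' _ _ _ (fun ⟨s, hs⟩ => ha (hs ▸ s.2)), zero_mul]
    have hv0 : ι v = 0 := Matrix.eq_zero_of_vecMul_eq_zero hG hw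
    funext a
    exact (Subtype.val_injective.extend_apply v 0 a).symm.trans (congrFun hv0 a.1)
  have := LinearMap.finrank_le_finrank_of_injective hL
  simpa [Module.finrank_fintype_fun_eq_card] using this

/-- Counting lemma: exponents `1, 1, -2` and zeros have no centre of symmetry. -/
theorem counts_absurd' {s : ℕ} (hn : 3 ≤ n) (hr : r.Prime) (hr2 : r ≠ 2) (h63 : ¬ (n = 6 ∧ r = 3))
    (h33 : ¬ (n = r ∧ (r = 3 ∨ r = 5))) (hs : s < r)
    (C : ℕ → ℕ) (hC : ∀ e, C e = (if e = 1 then 2 else 0) + (if e = r - 2 then 1 else 0) + (if e = 0 then n - 3 else 0))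
    (e0 : C 0 = C s) (e1 : C 1 = C (if s = 0 then r - 1 else s - 1))
    (e2 : C (r - 2) = C (if s + 2 < r then s + 2 else s + 2 - r)) : False := by
  have hr3 : 3 ≤ r := by have := hr.two_le; omega
  by_cases h3 : r = 3
  · subst h3
    interval_cases s <;> simp [hC] at e0 e1 <;> omega
  have h5 : 5 ≤ r := by
    by_contra h
    interval_cases r
    · exact h3 rfl
    · norm_num at hr
  have z : ∀ e, e ≠ 1 → e ≠ r - 2 → e ≠ 0 → C e = 0 := fun e a b c => by
    rw [hC, if_neg a, if_neg b, if_neg c]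
  have c1 : C 1 = 2 := by rw [hC, if_pos rfl, if_neg (by omega), if_neg one_ne_zero]
  have c0 : C 0 = n - 3 := by rw [hC, if_neg zero_ne_one, if_neg (by omega), if_pos rfl, zero_add, zero_add]
  have c2 : C (r - 2) = 1 := by rw [hC, if_neg (by omega), if_pos rfl, if_neg (by omega)]
  rcases Nat.eq_zero_or_pos s with h0 | h0
  · rw [if_pos h0, c1, z _ (by omega) (by omega) (by omega)] at e1
    omega
  · rw [if_neg (by omega)] at e1
    by_cases hs1 : s = 1
    · subst hs1
      rw [c0, c1] at e0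
      rw [if_pos (by omega), c2] at e2
      by_cases hr5 : r = 5
      · exact h33 ⟨by omega, Or.inr hr5⟩
      · rw [z 3 (by omega) (by omega) (by omega)] at e2
        omega
    by_cases hs2 : s = 2
    · subst hs2
      rw [if_pos (by omega), c2] at e2
      by_cases hr6 : r - 2 = 4
      · have : r = 6 := by omega
        subst this
        norm_num at hr
      · rw [z 4 (by omega) (by omega) (by omega)] at e2
        omega
    by_cases hs3 : s - 1 = r - 2
    · rw [hs3, c1, c2] at e1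
      omega
    · rw [c1, z _ (by omega) hs3 (by omega)] at e1
      omega

/-- Exponents `1, 1, -2`. -/
theorem diag_element (hn : 3 ≤ n) (hr2 : r ≠ 2) (h63 : ¬ (n = 6 ∧ r = 3)) (h33 : ¬ (n = r ∧ (r = 3 ∨ r = 5))) {ζ : Fˣ}
    (hζ : orderOf ζ = r) :
    ∃ M : Mn, (∀ (σ : F →+* F) (e : ℕ), σ ζ = (ζ : F) ^ e → M.map σ = M ^ e) ∧ M.IsSymm ∧ M.det = 1 ∧ M ^ r = 1 ∧ ∀ G : Mn, G.det ≠ 0 → ¬ Sim G M := by
  classical
  have hr : r.Prime := Fact.out
  have hr3 : 3 ≤ r := by have := hr.two_le; omega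
  let k : Fin n → ℕ := fun a => if (a : ℕ) < 2 then 1 else if (a : ℕ) = 2 then r - 2 else 0
  let dd : Fin n → F := fun a => ((ζ ^ k a : Fˣ) : F)
  have hval : ∀ i j : ℕ, ((ζ ^ i : Fˣ) : F) = ((ζ ^ j : Fˣ) : F) ↔ i % r = j % r := fun i j => by
    rw [Units.val_inj, pow_eq_pow_iff_modEq, hζ]; rfl
  have hk_sum : ∑ a : Fin n, k a = r := by
    rw [Fin.sum_univ_eq_sum_range (fun j => if j < 2 then 1 else if j = 2 then r - 2 else 0)]
    rw [show n = 3 + (n - 3) by omega, Finset.sum_range_add]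
    have h1 : ∑ j ∈ Finset.range (n - 3), (if 3 + j < 2 then 1 else if 3 + j = 2 then r - 2 else 0) = 0 :=
      Finset.sum_eq_zero fun j _ => by rw [if_neg (by omega), if_neg (by omega)]
    rw [h1]
    simp [Finset.sum_range_succ]
    omega
  have hζr : ζ ^ r = 1 := hζ ▸ pow_orderOf_eq_one ζ
  have hdet : (Matrix.diagonal dd).det = 1 := by
    rw [Matrix.det_diagonal, ← Units.coe_prod, Finset.prod_pow_eq_pow_sum, hk_sum, hζr, Units.val_one]
  have hxr : (Matrix.diagonal dd) ^ r = 1 := by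
    rw [Matrix.diagonal_pow, ← Matrix.diagonal_one]
    congr 1
    funext a
    show dd a ^ r = 1
    rw [← Units.val_pow_eq_pow_val, pow_right_comm, hζr, one_pow, Units.val_one]
  refine ⟨Matrix.diagonal dd, fun σ e hσ => ?_, Matrix.isSymm_diagonal dd, hdet, hxr, fun G hG' => ?_⟩
  · rw [Matrix.diagonal_map (map_zero σ), Matrix.diagonal_pow]
    congr 1
    funext a
    show σ (dd a) = dd a ^ e
    simp only [dd, Units.val_pow_eq_pow_val, map_pow, hσ]
    rw [← pow_mul, ← pow_mul, mul_comm]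
  rintro ⟨c, hc⟩
  have hcr : c ^ r = 1 := multiplier_eq hG' (by omega) hc hxr
  have : NeZero r := ⟨hr.ne_zero⟩
  obtain ⟨s, hsr, hs⟩ : ∃ s, s < r ∧ ((ζ ^ s : Fˣ) : F) = c := by
    obtain ⟨j, hj, hj'⟩ := ((IsPrimitiveRoot.coe_units_iff).mpr (hζ ▸ IsPrimitiveRoot.orderOf ζ)).eq_pow_of_pow_eq_one hcr
    exact ⟨j, hj, by rw [Units.val_pow_eq_pow_val]; exact hj'⟩
  set N : ℕ → ℕ := fun e => (Finset.univ.filter fun a => dd a = ((ζ ^ e : Fˣ) : F)).card with hNdef
  have hle : ∀ e f, (e + f) % r = s → N e ≤ N f := fun e g heg => count_le hG' hc (Units.ne_zero _) (by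
    rw [← Units.val_mul, ← pow_add, ← hs, hval, heg, Nat.mod_eq_of_lt hsr])
  have hcount : ∀ e, e < r → N e = (if e = 1 then 2 else 0) + (if e = r - 2 then 1 else 0) + (if e = 0 then n - 3 else 0) := by
    intro e he
    have hfil : (Finset.univ.filter fun a => dd a = ((ζ ^ e : Fˣ) : F)) = Finset.univ.filter fun a => k a = e := by
      refine Finset.filter_congr fun a _ => ?_
      rw [hval, Nat.mod_eq_of_lt he, Nat.mod_eq_of_lt]
      simp only [k]; split_ifs <;> omega
    show (Finset.univ.filter fun a => dd a = ((ζ ^ e : Fˣ) : F)).card = _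
    rw [hfil, Finset.card_filter, Fin.sum_univ_eq_sum_range
      (fun j => if (if j < 2 then 1 else if j = 2 then r - 2 else 0) = e then 1 else 0),
      show n = 3 + (n - 3) by omega, Finset.sum_range_add, Nat.add_sub_cancel_left]
    have h1 : ∑ j ∈ Finset.range (n - 3), (if (if 3 + j < 2 then 1 else if 3 + j = 2 then r - 2 else 0) = e then 1 else 0) =
        if e = 0 then n - 3 else 0 := by
      rw [Finset.sum_congr rfl fun j _ => by rw [if_neg (by omega : ¬ 3 + j < 2), if_neg (by omega : ¬ 3 + j = 2)],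
        Finset.sum_const, Finset.card_range, smul_eq_mul]
      split_ifs <;> omega
    rw [h1]
    simp only [Finset.sum_range_succ, Finset.sum_range_zero, if_true, if_false, Nat.lt_irrefl, one_lt_two,
      zero_lt_two, zero_add]
    split_ifs <;> omega
  have heq : ∀ e, e < r → N e = N ((s + r - e) % r) := by
    intro e he
    have h1 : (e + (s + r - e) % r) % r = s := by
      rw [Nat.add_mod_mod, show e + (s + r - e) = s + r by omega, Nat.add_mod_right, Nat.mod_eq_of_lt hsr]
    exact le_antisymm (hle _ _ h1) (hle _ _ (by rw [add_comm]; exact h1))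
  have e1 := heq 1 (by omega)
  have e0 := heq 0 hr.pos
  have e2 := heq (r - 2) (by omega)
  rw [hcount 1 (by omega), hcount _ (Nat.mod_lt _ hr.pos)] at e1
  rw [hcount 0 hr.pos, hcount _ (Nat.mod_lt _ hr.pos), Nat.sub_zero, Nat.add_mod_right, Nat.mod_eq_of_lt hsr] at e0
  rw [hcount _ (by omega : r - 2 < r), hcount _ (Nat.mod_lt _ hr.pos)] at e2
  have hm : (s + r - 1) % r = if s = 0 then r - 1 else s - 1 := by
    split_ifs with h
    · rw [h, zero_add, Nat.mod_eq_of_lt (by omega)]
    · rw [show s + r - 1 = s - 1 + r by omega, Nat.add_mod_right, Nat.mod_eq_of_lt (by omega)]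
  have hm2 : (s + r - (r - 2)) % r = if s + 2 < r then s + 2 else s + 2 - r := by
    rw [show s + r - (r - 2) = s + 2 by omega]
    split_ifs with h
    · exact Nat.mod_eq_of_lt h
    · rw [Nat.mod_eq_sub_mod (by omega), Nat.mod_eq_of_lt (by omega)]
  rw [hm] at e1
  rw [hm2] at e2
  exact counts_absurd' hn hr hr2 h63 h33 hsr
    (fun e => (if e = 1 then 2 else 0) + (if e = r - 2 then 1 else 0) + (if e = 0 then n - 3 else 0)) (fun e => rfl) e0 e1 e2

/-- The form version. -/
theorem bad_diag (hn : 3 ≤ n) (R : QuadraticForm F (Fin n → F)) (hG : (polarMat ⇑R).det ≠ 0) (hr2 : r ≠ 2)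
    (h63 : ¬ (n = 6 ∧ r = 3)) (h33 : ¬ (n = r ∧ (r = 3 ∨ r = 5))) (hrM : r ∣ Fintype.card F - 1) : SLBad (⇑R) r := by
  obtain ⟨ζ, hζ⟩ : ∃ ζ : Fˣ, orderOf ζ = r :=
    exists_prime_orderOf_dvd_card' r (by rwa [Nat.card_units, Nat.card_eq_fintype_card])
  obtain ⟨M, -, -, hdet, hpow, hno⟩ := diag_element hn hr2 h63 h33 hζ
  exact bad_of R hG M hdet (z := 1) (by rw [hpow, one_smul]) fun G _ hG' _ => hno G hG'

/-- A single exceptional eigenvalue corrected by a scalar of order `r ^ 2`. -/
theorem scaled_element (hnr : n = r) (hr3 : 3 ≤ r) {μ : Fˣ} (hμ : orderOf μ = r ^ 2) :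
    ∃ M : Mn, (∀ (σ : F →+* F) (e : ℕ), σ μ = (μ : F) ^ e → M.map σ = M ^ e) ∧ M.IsSymm ∧ M.det = 1 ∧
      M ^ r = ((μ : F) ^ r) • 1 ∧
      ∀ G : Mn, G.det ≠ 0 → ¬ Sim G M := by
  classical
  set ζ := (μ ^ r)⁻¹
  have hζ : orderOf ζ = r := by
    rw [orderOf_inv, orderOf_pow_of_dvd (by omega) (by rw [hμ]; exact dvd_pow_self r two_ne_zero), hμ, pow_two,
      Nat.mul_div_cancel _ (by omega)]
  let a₀ : Fin n := ⟨0, by omega⟩
  let dd : Fin n → F := fun a => if a = a₀ then (ζ : F) else 1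
  have hdet : ((μ : F) • Matrix.diagonal dd).det = 1 := by
    rw [det_smul, det_diagonal, Finset.prod_ite_eq', if_pos (Finset.mem_univ _), Fintype.card_fin, hnr,
      ← Units.val_pow_eq_pow_val, ← Units.val_mul, mul_inv_cancel, Units.val_one]
  have hζr : (ζ : F) ^ r = 1 := by rw [← Units.val_pow_eq_pow_val, ← hζ, pow_orderOf_eq_one, Units.val_one]
  have hDr : (Matrix.diagonal dd) ^ r = 1 := by
    rw [Matrix.diagonal_pow, ← Matrix.diagonal_one]
    congr 1
    funext a
    simp only [Pi.pow_apply, dd]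
    split_ifs <;> simp [hζr]
  refine ⟨(μ : F) • Matrix.diagonal dd, fun σ e hσ => ?_, (Matrix.isSymm_diagonal dd).smul _, hdet, by rw [_root_.smul_pow, hDr],
    fun G hG' => ?_⟩
  · have hσζ : σ (ζ : F) = (ζ : F) ^ e := by
      simp only [ζ, Units.val_inv_eq_inv_val, Units.val_pow_eq_pow_val, map_inv₀, map_pow, hσ]
      rw [inv_pow, ← pow_mul, ← pow_mul, mul_comm]
    rw [← Matrix.diagonal_smul, Matrix.diagonal_map (map_zero σ), Matrix.diagonal_pow]
    congr 1
    funext a
    simp only [Pi.smul_apply, Pi.pow_apply, smul_eq_mul, map_mul, hσ, dd, mul_pow]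
    split_ifs <;> simp [hσζ]
  rintro ⟨c', hc'⟩
  obtain ⟨c, hc⟩ : ∃ c, (Matrix.diagonal dd)ᵀ * G * Matrix.diagonal dd = c • G := ⟨((μ : F) * μ)⁻¹ * c', by
    rw [transpose_smul, Matrix.smul_mul, Matrix.smul_mul, Matrix.mul_smul, smul_smul] at hc'
    rw [← smul_smul, ← hc', smul_smul, inv_mul_cancel₀ (mul_ne_zero (Units.ne_zero μ) (Units.ne_zero μ)), one_smul]⟩
  have hζ1 : (ζ : F) ≠ 1 := fun h => by
    rw [Units.val_eq_one] at h
    rw [h, orderOf_one] at hζ
    omega
  have hcard1 : (Finset.univ.filter fun a => dd a = 1).card = n - 1 := by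
    rw [show (Finset.univ.filter fun a => dd a = 1) = Finset.univ.erase a₀ by
      ext a; by_cases h : a = a₀ <;> simp [dd, h, hζ1], Finset.card_erase_of_mem (Finset.mem_univ _), Finset.card_univ,
      Fintype.card_fin]
  have hcardζ : (Finset.univ.filter fun a => dd a = (ζ : F)).card = 1 := by
    rw [show (Finset.univ.filter fun a => dd a = (ζ : F)) = {a₀} by
      ext a; by_cases h : a = a₀ <;> simp [dd, h, Ne.symm hζ1], Finset.card_singleton]
  by_cases hc1 : c = 1
  · have h := count_le hG' hc (x := (ζ : F)) (y := (ζ : F)⁻¹) (Units.ne_zero ζ) (by rw [hc1, mul_inv_cancel₀ (Units.ne_zero ζ)])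
    rw [hcardζ, show (Finset.univ.filter fun a => dd a = (ζ : F)⁻¹) = ∅ by
      refine Finset.filter_eq_empty_iff.mpr fun a _ => ?_
      simp only [dd]
      split_ifs
      · intro e
        have h1 : (ζ : F) ^ 2 = 1 := by rw [pow_two]; nth_rw 1 [e]; exact inv_mul_cancel₀ (Units.ne_zero ζ)
        have h2 : ζ ^ 2 = 1 := Units.ext (by rw [Units.val_pow_eq_pow_val, h1, Units.val_one])
        have := Nat.le_of_dvd two_pos (hζ ▸ orderOf_dvd_of_pow_eq_one h2)
        omega
      · intro e; exact hζ1 (inv_eq_one.mp e.symm), Finset.card_empty] at h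
    omega
  · have h := count_le hG' hc (x := 1) (y := c) one_ne_zero (one_mul c)
    rw [hcard1] at h
    have h1 : (Finset.univ.filter fun a => dd a = c).card ≤ 1 := by
      rw [← hcardζ]
      refine Finset.card_le_card fun a ha => ?_
      simp only [Finset.mem_filter, Finset.mem_univ, true_and, dd] at ha ⊢
      split_ifs at ha ⊢ with h2
      · rfl
      · exact absurd ha.symm hc1
    omega

/-- A unit of order `m`. -/
theorem exists_unit_order {m : ℕ} (hm : m ∣ Fintype.card F - 1) : ∃ μ : Fˣ, orderOf μ = m := by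
  classical
  obtain ⟨g, hg⟩ := IsCyclic.exists_ofOrder_eq_natCard (α := Fˣ)
  rw [Nat.card_units, Nat.card_eq_fintype_card] at hg
  have hq1 : Fintype.card F - 1 ≠ 0 := by have := Fintype.one_lt_card (α := F); omega
  refine ⟨g ^ ((Fintype.card F - 1) / m), ?_⟩
  rw [orderOf_pow_of_dvd ((Nat.div_ne_zero_iff_of_dvd hm).mpr ⟨hq1, fun h => hq1 (Nat.eq_zero_of_zero_dvd (h ▸ hm))⟩)
      (by rw [hg]; exact Nat.div_dvd_of_dvd hm), hg, Nat.div_div_self hm hq1]

/-- The form version. -/
theorem bad_scaled (R : QuadraticForm F (Fin n → F)) (hG : (polarMat ⇑R).det ≠ 0) (hnr : n = r) (hr3 : 3 ≤ r)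
    (h2r : r ^ 2 ∣ Fintype.card F - 1) : SLBad (⇑R) r := by
  obtain ⟨μ, hμ⟩ := exists_unit_order h2r
  obtain ⟨M, -, -, hdet, hpow, hno⟩ := scaled_element hnr hr3 hμ
  exact bad_of R hG M hdet hpow fun G _ hG' _ => hno G hG'

end CfsgLib.OrthSLElusive
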