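/-
Conjugating elements into the similarities of a quadratic form.
-/
import Cfsg.Agent.Lib.OrthSLElusive.Negative

set_option autoImplicit false
set_option linter.unusedSectionVars false

namespace CfsgLib.OrthSLElusive

open Polynomial Matrix Module CfsgLib.FiniteForms

universe u

variable {F : Type u} [Field F] [Fintype F] {n : ℕ}

local notation "Mn" => Matrix (Fin n) (Fin n) F

theorem det_basis_ne_zero (B : Basis (Fin n) F (Fin n → F)) : (Matrix.of fun a i => B i a).det ≠ 0 := by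
  have h := ((Pi.basisFun F (Fin n)).is_basis_iff_det.mp ⟨B.linearIndependent, B.span_eq⟩).ne_zero
  rw [Basis.det_apply] at h
  exact h

/-- Pairs of vectors exchanged up to a nonsquare. -/
theorem exists_pairs (M : Mn) {z : F} (hz : ¬ IsSquare z) (hx : M ^ 2 = z • 1) :
    ∃ (N : ℕ) (e : Fin 2 × Fin N ≃ Fin n) (gR : Matrix (Fin n) (Fin 2 × Fin N) F), 2 * N = n ∧
      (gR.submatrix id e.symm).det ≠ 0 ∧ M * gR.submatrix id e.symm =
        gR.submatrix id e.symm * Matrix.reindex e e (Matrix.blockDiagonal fun _ : Fin N => !![0, z; 1, 0]) := by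
  classical
  set T : Module.End F (Fin n → F) := Matrix.toLinAlgEquiv' M with hTdef
  have hirr : Irreducible (X ^ 2 - C z) :=
    X_pow_sub_C_irreducible_of_prime Nat.prime_two fun b hb => hz ⟨b, by rw [← hb, pow_two]⟩
  have hdeg : (X ^ 2 - C z).natDegree = 2 := natDegree_X_pow_sub_C
  have hT : aeval T (X ^ 2 - C z) = 0 := by
    rw [map_sub, map_pow, aeval_X, aeval_C, hTdef, ← map_pow, hx, Algebra.algebraMap_eq_smul_one,
      map_smul, map_one, sub_self]
  obtain ⟨N, w, B₀, hN, hB₀⟩ := CfsgLib.MaxSub.Elusive.orbit_basis T hirr hT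
  rw [hdeg, Module.finrank_fin_fun] at hN
  let B : Basis (Fin 2 × Fin N) F (Fin n → F) := B₀.reindex ((finCongr hdeg).prodCongr (Equiv.refl _))
  have hB : ∀ i k, B (i, k) = (T ^ (i : ℕ)) (w k) := fun i k => by
    simp [B, Basis.reindex_apply, hB₀]
  let e : Fin 2 × Fin N ≃ Fin n := Fintype.equivFinOfCardEq (by rw [Fintype.card_prod, Fintype.card_fin, Fintype.card_fin, hN])
  let Y₂ : Matrix (Fin 2) (Fin 2) F := !![0, z; 1, 0]
  let gR : Matrix (Fin n) (Fin 2 × Fin N) F := Matrix.of fun a l => B l a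
  let Yb := Matrix.blockDiagonal fun _ : Fin N => Y₂
  have hxR : M * gR = gR * Yb := by
    refine Matrix.ext fun a ⟨j, l⟩ => ?_
    have h1 : (M * gR) a (j, l) = T (B (j, l)) a := rfl
    have h2' : (gR * Yb) a (j, l) = B (0, l) a * Y₂ 0 j + B (1, l) a * Y₂ 1 j := by
      simp [gR, Yb, Matrix.mul_apply, Fintype.sum_prod_type, Matrix.blockDiagonal_apply]
    rw [h1, h2', hB, hB, hB]
    have hTT : T (T (w l)) = z • w l := by
      have h3 := LinearMap.congr_fun hT (w l)
      rw [map_sub, map_pow, aeval_X, aeval_C, LinearMap.sub_apply, pow_two, Module.End.mul_apply,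
        Algebra.algebraMap_eq_smul_one, LinearMap.smul_apply, Module.End.one_apply, LinearMap.zero_apply, sub_eq_zero] at h3
      exact h3
    fin_cases j
    · simp [Y₂]
    · simp [Y₂, hTT, mul_comm]
  refine ⟨N, e, gR, hN, ?_, ?_⟩
  · have : gR.submatrix id e.symm = Matrix.of fun a i => (B.reindex e) i a := by
      ext a i; simp [gR, Basis.reindex_apply]
    rw [this]
    exact det_basis_ne_zero _
  · rw [Matrix.reindex_apply, Matrix.submatrix_mul_equiv, ← hxR]
    exact (Matrix.submatrix_mul M gR id id e.symm Function.bijective_id).symm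

/-- Every element whose square is scalar. -/
theorem pos_two {p : ℕ} [Fact p.Prime] [CharP F p] (h2 : (2 : F) ≠ 0) (hn : 0 < n) (R : QuadraticForm F (Fin n → F))
    (hG : (polarMat ⇑R).det ≠ 0) (x : GL (Fin n) F) {z : F} (hx : (x : Mn) ^ 2 = z • 1) :
    ∃ P ∈ Cfsg.Geo.specialLinear (Fin n) F, P⁻¹ * x * P ∈ Cfsg.Geo.quadSimilarityGroup ⇑R := by
  classical
  have hS := polarMat_isSymm ⇑R
  set G₀ := polarMat ⇑R with hG₀
  have hxdet : (x : Mn).det ≠ 0 := ((Matrix.isUnit_iff_isUnit_det _).mp x.isUnit).ne_zero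
  have hz0 : z ≠ 0 := fun h => by
    have h1 := congrArg Matrix.det hx
    rw [det_pow, h, det_smul, Fintype.card_fin, zero_pow hn.ne', zero_mul] at h1
    exact hxdet (pow_eq_zero_iff two_ne_zero |>.mp h1)
  by_cases hz : IsSquare z
  · obtain ⟨s, rfl⟩ := hz
    have hs : s ≠ 0 := left_ne_zero_of_mul hz0
    have hp : p ≠ 2 := fun h => h2 (by subst h; exact_mod_cast CharP.cast_eq_zero F 2)
    obtain ⟨g, k, hg, -, hgk⟩ := exists_eigen two_pos (by exact_mod_cast h2) (IsPrimitiveRoot.neg_one p hp)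
      (s⁻¹ • (x : Mn)) (by rw [_root_.smul_pow, hx, smul_smul, show s⁻¹ ^ 2 * (s * s) = 1 by field_simp, one_smul])
    have := invertibleOfNonzero h2
    obtain ⟨w, hw⟩ := exists_diag G₀ hS
    set d : Fin n → F := fun i => (-1) ^ k i
    refine conj_into h2 R hG (Y := s • Matrix.diagonal d) (G' := Matrix.diagonal w) (μ := s * s) (c := 1) hg ?_ ?_ one_ne_zero
      (by rwa [one_smul]) fun t ht => ⟨Matrix.diagonal (Function.update (1 : Fin n → F) ⟨0, hn⟩ t), ?_, ?_⟩
    · rw [Matrix.mul_smul, ← hgk, Matrix.smul_mul, smul_smul, mul_inv_cancel₀ hs, one_smul]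
    · rw [Matrix.transpose_smul, Matrix.diagonal_transpose, Matrix.smul_mul, Matrix.smul_mul, Matrix.mul_smul, smul_smul,
        Matrix.diagonal_mul_diagonal, Matrix.diagonal_mul_diagonal]
      congr 2
      funext i
      show (-1 : F) ^ k i * w i * (-1) ^ k i = w i
      rw [mul_right_comm, ← mul_pow, neg_one_mul, neg_neg, one_pow, one_mul]
    · rw [det_diagonal, Finset.prod_update_of_mem (Finset.mem_univ _)]
      simp
    · rw [Matrix.mul_smul, Matrix.smul_mul, Matrix.diagonal_mul_diagonal, Matrix.diagonal_mul_diagonal]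
      simp only [mul_comm]
  · -- pairs of vectors exchanged up to the nonsquare
    obtain ⟨N, e, gR, hN, hgR, hxR⟩ := exists_pairs (x : Mn) hz hx
    let k₀ : Fin N := ⟨0, by omega⟩
    let Y₂ : Matrix (Fin 2) (Fin 2) F := !![0, z; 1, 0]
    let Yb := Matrix.blockDiagonal fun _ : Fin N => Y₂
    set D := G₀.det * z ^ (N - 1) with hD
    have hD0 : D ≠ 0 := mul_ne_zero hG (pow_ne_zero _ hz0)
    obtain ⟨a, c, hac⟩ := exists_rep_one h2 (div_ne_zero hz0 hD0) (div_ne_zero (neg_ne_zero.mpr one_ne_zero) hD0)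
    have hac' : z * (a * a) - c * c = D := by field_simp at hac; linear_combination hac
    let Gs : Fin N → Matrix (Fin 2) (Fin 2) F := fun k => if k = k₀ then !![a, c; c, z * a] else !![1, 0; 0, z]
    have hGs : ∀ k, (Gs k)ᵀ = Gs k ∧ Y₂ᵀ * Gs k * Y₂ = z • Gs k := fun k => by
      simp only [Gs]
      split_ifs <;>
        exact ⟨Matrix.ext fun i j => by fin_cases i <;> fin_cases j <;> simp,
          Matrix.ext fun i j => by fin_cases i <;> fin_cases j <;> simp [Y₂, Matrix.mul_apply, Fin.sum_univ_two] <;> ring⟩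
    have hdetG : (Matrix.reindex e e (Matrix.blockDiagonal Gs)).det = D * z ^ (N - 1) := by
      rw [det_reindex_self, det_blockDiagonal, ← Finset.mul_prod_erase _ _ (Finset.mem_univ k₀),
        Finset.prod_congr rfl fun k hk => show (Gs k).det = z by
          simp [Gs, (Finset.mem_erase.mp hk).1, det_fin_two],
        Finset.prod_const, Finset.card_erase_of_mem (Finset.mem_univ _), Finset.card_univ, Fintype.card_fin]
      congr 1
      simp [Gs, det_fin_two]
      linear_combination hac'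
    refine conj_into h2 R hG (g := gR.submatrix id e.symm) (Y := Matrix.reindex e e Yb)
      (G' := Matrix.reindex e e (Matrix.blockDiagonal Gs)) (μ := z) (c := 1) ?_ ?_ ?_ one_ne_zero ?_ fun t ht => ?_
    · exact hgR
    · exact hxR
    · simp only [Matrix.reindex_apply, Matrix.transpose_submatrix, Matrix.submatrix_mul_equiv]
      rw [show z • (Matrix.blockDiagonal Gs).submatrix e.symm e.symm = (z • Matrix.blockDiagonal Gs).submatrix e.symm e.symm from rfl]
      congr 1
      simp only [Yb, Matrix.blockDiagonal_transpose, ← Matrix.blockDiagonal_mul, ← Matrix.blockDiagonal_smul]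
      congr 1
      funext k
      exact (hGs k).2
    · rw [one_smul, congr_iff h2 hS ?_ hG ?_]
      · refine ⟨G₀.det * z ^ (N - 1), ?_⟩
        rw [hdetG, hD]
        ring
      · rw [Matrix.IsSymm, Matrix.reindex_apply, Matrix.transpose_submatrix, Matrix.blockDiagonal_transpose]
        simp only [fun k => (hGs k).1]
      · rw [hdetG]; exact mul_ne_zero hD0 (pow_ne_zero _ hz0)
    · obtain ⟨α, β, hαβ⟩ := exists_rep_one h2 (div_ne_zero one_ne_zero ht) (div_ne_zero (neg_ne_zero.mpr hz0) ht)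
      have hαβ' : α * α - z * (β * β) = t := by field_simp at hαβ; linear_combination hαβ
      refine ⟨Matrix.reindex e e (Matrix.blockDiagonal fun k => if k = k₀ then !![α, z * β; β, α] else 1), ?_, ?_⟩
      · rw [det_reindex_self, det_blockDiagonal, Finset.prod_eq_single k₀ (fun k _ hk => by simp [hk])
          (fun h => absurd (Finset.mem_univ _) h)]
        simp [det_fin_two]
        linear_combination hαβ'
      · simp only [Matrix.reindex_apply, Matrix.submatrix_mul_equiv, Yb, ← Matrix.blockDiagonal_mul]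
        congr 2
        funext k
        split_ifs
        · exact Matrix.ext fun i j => by fin_cases i <;> fin_cases j <;> simp [Y₂, Matrix.mul_apply, Fin.sum_univ_two] <;> ring
        · rw [one_mul, mul_one]

/-- The involutions of three points moving two of them. -/
def inv3 : Fin 3 → Fin 3 → Fin 3 := ![![0, 2, 1], ![2, 1, 0], ![1, 0, 2]]

/-- The involutions of five points moving four of them. -/
def inv5 : Fin 15 → Fin 5 → Fin 5 :=
  ![![0, 2, 1, 4, 3], ![0, 3, 4, 1, 2], ![0, 4, 3, 2, 1],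
    ![2, 1, 0, 4, 3], ![3, 1, 4, 0, 2], ![4, 1, 3, 2, 0],
    ![1, 0, 2, 4, 3], ![3, 4, 2, 0, 1], ![4, 3, 2, 1, 0],
    ![1, 0, 4, 3, 2], ![2, 4, 0, 3, 1], ![4, 2, 1, 3, 0],
    ![1, 0, 3, 2, 4], ![2, 3, 0, 1, 4], ![3, 2, 1, 0, 4]]

theorem inv5_involutive : ∀ j i, inv5 j (inv5 j i) = i := by decide +kernel

theorem pairing3 : ∀ a b : ZMod 3, ∃ j, ∀ i,
    ![a, b, -(a + b)] i + ![a, b, -(a + b)] (inv3 j i) = ![a, b, -(a + b)] 0 + ![a, b, -(a + b)] (inv3 j 0) := by
  decide +kernel

theorem pairing5 : ∀ a b c d : ZMod 5, ∃ j, ∀ i,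
    ![a, b, c, d, -(a + b + c + d)] i + ![a, b, c, d, -(a + b + c + d)] (inv5 j i) =
      ![a, b, c, d, -(a + b + c + d)] 0 + ![a, b, c, d, -(a + b + c + d)] (inv5 j 0) := by
  decide +kernel

theorem exists_pairing {r : ℕ} [NeZero r] (hr : r = 3 ∨ r = 5) (f : Fin r → ZMod r) (hf : ∑ i, f i = 0) :
    ∃ π : Fin r → Fin r, Function.Involutive π ∧ ∀ i, f i + f (π i) = f 0 + f (π 0) := by
  rcases hr with rfl | rfl
  · have he : f = ![f 0, f 1, -(f 0 + f 1)] := by
      rw [Fin.sum_univ_three] at hf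
      funext i
      fin_cases i <;> simp
      linear_combination hf
    obtain ⟨j, hj⟩ := pairing3 (f 0) (f 1)
    rw [← he] at hj
    exact ⟨inv3 j, fun i => (by decide : ∀ j i, inv3 j (inv3 j i) = i) j i, hj⟩
  · have he : f = ![f 0, f 1, f 2, f 3, -(f 0 + f 1 + f 2 + f 3)] := by
      rw [Fin.sum_univ_five] at hf
      funext i
      fin_cases i <;> simp
      linear_combination hf
    obtain ⟨j, hj⟩ := pairing5 (f 0) (f 1) (f 2) (f 3)
    rw [← he] at hj
    exact ⟨inv5 j, inv5_involutive j, hj⟩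

/-- An element of determinant one with scalar power of prime degree is diagonal in some basis. -/
theorem small_eigen [Fact n.Prime] (hodd : Odd n) (hrq : n ∣ Fintype.card F - 1) (hr2 : ¬ n ^ 2 ∣ Fintype.card F - 1)
    (x : GL (Fin n) F) (hxdet : (x : Mn).det = 1) {z : F} (hx : (x : Mn) ^ n = z • 1) :
    ∃ (ζ : Fˣ) (g : Mn) (k : Fin n → ℕ), orderOf ζ = n ∧ g.det ≠ 0 ∧
      (x : Mn) * g = g * Matrix.diagonal (fun i => (ζ : F) ^ k i) ∧ ∑ i, (k i : ZMod n) = 0 := by
  classical
  have hnP : n.Prime := Fact.out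
  obtain ⟨ζu, hζu⟩ : ∃ ζ : Fˣ, orderOf ζ = n :=
    exists_prime_orderOf_dvd_card' n (by rwa [Nat.card_units, Nat.card_eq_fintype_card])
  set ζ : F := (ζu : F)
  have hζ : IsPrimitiveRoot ζ n := IsPrimitiveRoot.coe_units_iff.mpr (hζu ▸ IsPrimitiveRoot.orderOf ζu)
  have hzn : z ^ n = 1 := by
    have h1 := congrArg Matrix.det hx
    rw [det_pow, hxdet, one_pow, det_smul, Fintype.card_fin, det_one, mul_one] at h1
    exact h1.symm
  have hz1 : z = 1 := by
    by_contra hz1
    have hnp : ∀ b : F, b ^ n ≠ z := fun b hb => hz1 (by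
      have hb0 : b ≠ 0 := fun h => by rw [h, zero_pow hnP.ne_zero] at hb; rw [← hb, zero_pow hnP.ne_zero] at hzn; exact zero_ne_one hzn
      have h1 : b ^ n ^ 2 = 1 := by rw [pow_two, pow_mul, hb, hzn]
      have h2' : b ^ (Fintype.card F - 1) = 1 := FiniteField.pow_card_sub_one_eq_one b hb0
      rw [← hb]
      have h3 := Nat.dvd_gcd (orderOf_dvd_of_pow_eq_one h1) (orderOf_dvd_of_pow_eq_one h2')
      obtain ⟨j, hj, hje⟩ := (Nat.dvd_prime_pow hnP).mp (Nat.gcd_dvd_left (n ^ 2) (Fintype.card F - 1))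
      rw [hje] at h3
      have hj1 : j ≤ 1 := by
        by_contra h
        exact hr2 (((pow_dvd_pow n (by omega)).trans (dvd_of_eq hje.symm)).trans (Nat.gcd_dvd_right _ _))
      exact orderOf_dvd_iff_pow_eq_one.mp (h3.trans ((pow_dvd_pow n hj1).trans (dvd_of_eq (pow_one n)))))
    have hirr : Irreducible (X ^ n - C z) := X_pow_sub_C_irreducible_of_prime hnP hnp
    have hmon : (X ^ n - C z).Monic := monic_X_pow_sub_C z hnP.ne_zero
    have hae : aeval (x : Mn) (X ^ n - C z) = 0 := by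
      rw [map_sub, map_pow, aeval_X, aeval_C, hx, Algebra.algebraMap_eq_smul_one, sub_self]
    have hmin := minpoly.eq_of_irreducible_of_monic hirr hae hmon
    have hcp : (x : Mn).charpoly = X ^ n - C z := by
      refine (Polynomial.eq_of_monic_of_dvd_of_natDegree_le hmon (Matrix.charpoly_monic _)
        (hmin ▸ Matrix.minpoly_dvd_charpoly _) ?_)
      rw [Matrix.charpoly_natDegree_eq_dim, Fintype.card_fin, natDegree_X_pow_sub_C]
    have h3 := Matrix.det_eq_sign_charpoly_coeff (x : Mn)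
    rw [hcp, hxdet, Fintype.card_fin, coeff_sub, coeff_X_pow, if_neg (Ne.symm hnP.ne_zero), coeff_C_zero, hodd.neg_one_pow] at h3
    exact hz1 (by linear_combination -h3)
  have hnF : (n : F) ≠ 0 := fun h => by
    obtain ⟨p, hp⟩ := CharP.exists F
    have hpn := (CharP.cast_eq_zero_iff F p n).mp h
    have hpp : p.Prime := CharP.char_is_prime F p
    rw [Nat.prime_dvd_prime_iff_eq hpp hnP] at hpn
    subst hpn
    have := Fact.mk hpp
    obtain ⟨⟨k, hk⟩, -, hk'⟩ := FiniteField.card F p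
    rw [hk'] at hrq
    have h4 : p ∣ p ^ k := dvd_pow_self p (Nat.pos_iff_ne_zero.mp hk)
    have h5 : p ∣ p ^ k - (p ^ k - 1) := Nat.dvd_sub h4 hrq
    rw [Nat.sub_sub_self (Nat.one_le_pow _ _ hpp.pos)] at h5
    exact hpp.ne_one (Nat.dvd_one.mp h5)
  obtain ⟨g, k, hg, -, hgk⟩ := exists_eigen hnP.pos hnF hζ (x : Mn) (by rw [hx, hz1, one_smul])
  have hsum : ∑ i, (k i : ZMod n) = 0 := by
    rw [← Nat.cast_sum, ZMod.natCast_eq_zero_iff, ← hζ.pow_eq_one_iff_dvd]
    have h1 := congrArg Matrix.det hgk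
    rw [det_mul, det_mul, hxdet, one_mul, det_diagonal, Finset.prod_pow_eq_pow_sum] at h1
    exact (mul_eq_left₀ hg).mp h1.symm
  exact ⟨ζu, g, k, hζu, hg, hgk, hsum⟩

/-- The exceptional odd dimensions. -/
theorem pos_small (h2 : (2 : F) ≠ 0) {r : ℕ} [Fact r.Prime] (hr : r = 3 ∨ r = 5) (hnr : n = r)
    (hrq : r ∣ Fintype.card F - 1) (hr2 : ¬ r ^ 2 ∣ Fintype.card F - 1) (R : QuadraticForm F (Fin n → F))
    (hG : (polarMat ⇑R).det ≠ 0) (x : GL (Fin n) F) (hxdet : (x : Mn).det = 1) {z : F} (hx : (x : Mn) ^ r = z • 1) :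
    ∃ P ∈ Cfsg.Geo.specialLinear (Fin n) F, P⁻¹ * x * P ∈ Cfsg.Geo.quadSimilarityGroup ⇑R := by
  classical
  subst hnr
  have hnP : n.Prime := Fact.out
  have : NeZero n := ⟨hnP.ne_zero⟩
  have hodd : Odd n := hnP.odd_of_ne_two (by omega)
  obtain ⟨ζu, g, k, hζu, hg, hgk, hsum⟩ := small_eigen hodd hrq hr2 x hxdet hx
  set ζ : F := (ζu : F)
  have hζ : IsPrimitiveRoot ζ n := IsPrimitiveRoot.coe_units_iff.mpr (hζu ▸ IsPrimitiveRoot.orderOf ζu)
  obtain ⟨π, hπ, hπk⟩ := exists_pairing hr (fun i => (k i : ZMod n)) hsum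
  let σ : Equiv.Perm (Fin n) := hπ.toPerm π
  set d : Fin n → F := fun i => ζ ^ k i
  have hμ : ∀ i, d i * d (π i) = d 0 * d (π 0) := fun i => by
    simp only [d, ← pow_add]
    rw [pow_eq_pow_mod _ hζ.pow_eq_one, pow_eq_pow_mod (k 0 + k (π 0)) hζ.pow_eq_one]
    congr 1
    rw [← ZMod.natCast_eq_natCast_iff', Nat.cast_add, Nat.cast_add]
    exact hπk i
  set G' : Mn := σ.permMatrix F
  have hG'0 : G'.det ≠ 0 := by
    rw [Matrix.det_permutation]
    rcases Int.units_eq_one_or (Equiv.Perm.sign σ) with h | h <;> simp [h]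
  have hG's : G'.IsSymm := by
    rw [Matrix.IsSymm, Matrix.transpose_permMatrix, show σ⁻¹ = σ from Equiv.ext fun i => rfl]
  set c := (polarMat ⇑R).det * G'.det with hc
  refine conj_into h2 R hG (Y := Matrix.diagonal d) (G' := G') (μ := d 0 * d (π 0)) (c := c) hg hgk ?_
    (mul_ne_zero hG hG'0) ?_ fun t ht => ⟨Matrix.diagonal (Function.update (1 : Fin n → F) 0 t), ?_, ?_⟩
  · refine Matrix.ext fun i j => ?_
    rw [Matrix.diagonal_transpose, Matrix.mul_diagonal, Matrix.diagonal_mul, Matrix.smul_apply, smul_eq_mul]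
    by_cases h : j = π i
    · subst h
      rw [mul_right_comm, hμ]
    · have hz : G' i j = 0 := by
        simp [G', σ, Equiv.Perm.permMatrix, Equiv.toPEquiv_apply, Ne.symm h]
      rw [hz, mul_zero, zero_mul, mul_zero]
  · rw [congr_iff h2 (IsSymm.smul (polarMat_isSymm ⇑R) c) hG's (by
      rw [det_smul]; exact mul_ne_zero (pow_ne_zero _ (mul_ne_zero hG hG'0)) hG) hG'0]
    obtain ⟨m, hm⟩ := hodd
    refine ⟨c ^ (m + 1), ?_⟩
    rw [det_smul, Fintype.card_fin, mul_assoc, ← hc, ← pow_succ, ← pow_add]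
    congr 1
    omega
  · rw [det_diagonal, Finset.prod_update_of_mem (Finset.mem_univ _)]
    simp
  · rw [Matrix.diagonal_mul_diagonal, Matrix.diagonal_mul_diagonal]
    simp only [mul_comm]

end CfsgLib.OrthSLElusive
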